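import Mathlib
import Cfsg.Prelude.Def_Characters
import Cfsg.Prelude.Def_Blocks

/-!
# Faithful characters
-/

set_option autoImplicit false

namespace Cfsg.Agent.H25

/-- `charDegree` of the character of a representation on `Fin n → ℂ` is `n`. -/
theorem charDegree_character {G : Type*} [Group G] {n : ℕ}
    (ρ : Representation ℂ G (Fin n → ℂ)) : Cfsg.charDegree ρ.character = n := by
  simp [Cfsg.charDegree]

/-- A faithful character of degree `n` is afforded by a faithful representation on `Fin n → ℂ`. -/
theorem exists_faithful_rep {G : Type*} [Group G] {χ : G → ℂ} (hχ : Cfsg.IsCharacter G χ)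
    (hfaith : ∀ g : G, χ g = χ 1 → g = 1) {n : ℕ} (hn : Cfsg.charDegree χ = n) :
    ∃ ρ : Representation ℂ G (Fin n → ℂ), ρ.character = χ ∧ Function.Injective ρ := by
  obtain ⟨m, ρ, rfl⟩ := hχ
  rw [charDegree_character] at hn
  subst hn
  refine ⟨ρ, rfl, (injective_iff_map_eq_one ρ).mpr fun g hg => hfaith g ?_⟩
  simp [Representation.character, hg, map_one ρ]

end Cfsg.Agent.H25
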