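import Mathlib
import Cfsg.Prelude.Def_Characters
import Cfsg.Agent.H25.CharValues

/-!
# Frobenius' argument: elements close to a scalar generate an abelian normal subgroup

For a finite group of unitary operators, the elements `g` with `‖σ g - √3/2‖ < 1/2` (i.e. all
eigenvalues with argument in `(-π/6, π/6)`) pairwise commute.
-/

set_option autoImplicit false

open scoped InnerProductSpace ComplexConjugate
open Module

namespace Cfsg.Agent.H25

/-- A complex representation of a finite group is similar to a unitary one. -/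
theorem exists_unitary_form {G : Type*} [Group G] [Fintype G] {n : ℕ}
    (ρ : Representation ℂ G (Fin n → ℂ)) :
    ∃ (σ : G →* (EuclideanSpace ℂ (Fin n) →L[ℂ] EuclideanSpace ℂ (Fin n)))
      (e : (Fin n → ℂ) ≃ₗ[ℂ] EuclideanSpace ℂ (Fin n)),
      (∀ g v, σ g (e v) = e (ρ g v)) ∧ ∀ g w, ‖σ g w‖ = ‖w‖ := by
  let J : (Fin n → ℂ) →ₗ[ℂ] EuclideanSpace ℂ (G × Fin n) :=
    (WithLp.linearEquiv 2 ℂ (G × Fin n → ℂ)).symm.toLinearMap ∘ₗ
      LinearMap.pi fun p : G × Fin n => LinearMap.proj p.2 ∘ₗ ρ p.1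
  have hJapp : ∀ v p, (J v) p = ρ p.1 v p.2 := fun v p => rfl
  have hJ : Function.Injective J := by
    intro v w h
    funext i
    have := congrArg (fun x : EuclideanSpace ℂ (G × Fin n) => x (1, i)) h
    simpa [hJapp] using this
  let e₀ : (Fin n → ℂ) ≃ₗ[ℂ] LinearMap.range J := LinearEquiv.ofInjective J hJ
  have hdim : finrank ℂ (LinearMap.range J) = n := by
    rw [← e₀.finrank_eq, Module.finrank_fin_fun]
  let f : LinearMap.range J ≃ₗᵢ[ℂ] EuclideanSpace ℂ (Fin n) :=
    ((stdOrthonormalBasis ℂ (LinearMap.range J)).reindex (finCongr hdim)).repr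
  let e : (Fin n → ℂ) ≃ₗ[ℂ] EuclideanSpace ℂ (Fin n) := e₀.trans f.toLinearEquiv
  have he : ∀ v, ‖e v‖ = ‖J v‖ := fun v => f.norm_map (e₀ v)
  let σ : G →* (EuclideanSpace ℂ (Fin n) →L[ℂ] EuclideanSpace ℂ (Fin n)) :=
    { toFun := fun g => LinearMap.toContinuousLinearMap (e.conj (ρ g))
      map_one' := by ext w; simp
      map_mul' := fun a b => by ext w; simp [map_mul] }
  refine ⟨σ, e, fun g v => by simp [σ], fun g w => ?_⟩
  obtain ⟨v, rfl⟩ := e.surjective w
  have h1 : σ g (e v) = e (ρ g v) := by simp [σ]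
  rw [h1, he, he, EuclideanSpace.norm_eq, EuclideanSpace.norm_eq]
  congr 1
  refine Fintype.sum_equiv ((Equiv.mulRight g).prodCongr (Equiv.refl _)) _ _ fun p => ?_
  simp [hJapp, map_mul]

section Frobenius

variable {G : Type*} [Group G] {E : Type*} [NormedAddCommGroup E] [InnerProductSpace ℂ E]
  (σ : G →* (E →L[ℂ] E))

/-- `g` and `g⁻¹` act with distance less than `1/2` from the scalar `√3/2`. -/
def NearOne (g : G) : Prop :=
  ‖σ g - ((√3 / 2 : ℝ) : ℂ) • (1 : E →L[ℂ] E)‖ < 1 / 2 ∧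
    ‖σ g⁻¹ - ((√3 / 2 : ℝ) : ℂ) • (1 : E →L[ℂ] E)‖ < 1 / 2

variable {σ}

/-- Composition of the actions of `a` and `b`. -/
theorem apply_mul_apply (a b : G) (v : E) : σ a (σ b v) = σ (a * b) v := by
  rw [map_mul]; rfl

/-- The action of an inverse. -/
theorem apply_inv_apply (a : G) (v : E) : σ a⁻¹ (σ a v) = v := by
  rw [apply_mul_apply, inv_mul_cancel, map_one]; rfl

/-- Isometries preserve the inner product. -/
theorem inner_apply_apply (hσ : ∀ g w, ‖σ g w‖ = ‖w‖) (g : G) (v w : E) :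
    ⟪σ g v, σ g w⟫_ℂ = ⟪v, w⟫_ℂ :=
  LinearIsometry.inner_map_map ⟨(σ g).toLinearMap, fun x => hσ g x⟩ v w

/-- An isometry has operator norm at most one. -/
theorem norm_apply_le_one (hσ : ∀ g w, ‖σ g w‖ = ‖w‖) (g : G) : ‖σ g‖ ≤ 1 :=
  ContinuousLinearMap.opNorm_le_bound _ zero_le_one fun w => by rw [hσ g w, one_mul]

/-- Nearness is invariant under inversion. -/
theorem NearOne.inv {g : G} (h : NearOne σ g) : NearOne σ g⁻¹ :=
  ⟨h.2, by rw [inv_inv]; exact h.1⟩

/-- Nearness is invariant under conjugation. -/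
theorem NearOne.conj (hσ : ∀ g w, ‖σ g w‖ = ‖w‖) {g : G} (h : NearOne σ g) (x : G) :
    NearOne σ (x * g * x⁻¹) := by
  have key : ∀ y : G, ‖σ (x * y * x⁻¹) - ((√3 / 2 : ℝ) : ℂ) • (1 : E →L[ℂ] E)‖ ≤
      ‖σ y - ((√3 / 2 : ℝ) : ℂ) • (1 : E →L[ℂ] E)‖ := by
    intro y
    have : σ (x * y * x⁻¹) - ((√3 / 2 : ℝ) : ℂ) • (1 : E →L[ℂ] E) =
        σ x * (σ y - ((√3 / 2 : ℝ) : ℂ) • (1 : E →L[ℂ] E)) * σ x⁻¹ := by
      rw [mul_sub, sub_mul, ← map_mul, ← map_mul, mul_smul_comm, mul_one, smul_mul_assoc,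
        ← map_mul, mul_inv_cancel, map_one]
    rw [this]
    calc _ ≤ ‖σ x‖ * ‖σ y - ((√3 / 2 : ℝ) : ℂ) • (1 : E →L[ℂ] E)‖ * ‖σ x⁻¹‖ :=
          (norm_mul_le _ _).trans (mul_le_mul_of_nonneg_right (norm_mul_le _ _) (norm_nonneg _))
      _ ≤ 1 * ‖σ y - ((√3 / 2 : ℝ) : ℂ) • (1 : E →L[ℂ] E)‖ * 1 := by
          gcongr
          · exact norm_apply_le_one hσ x
          · exact norm_apply_le_one hσ x⁻¹
      _ = _ := by ring
  refine ⟨(key g).trans_lt h.1, ?_⟩
  rw [show (x * g * x⁻¹)⁻¹ = x * g⁻¹ * x⁻¹ by group]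
  exact (key g⁻¹).trans_lt h.2

/-- A product of two near-one elements has numerical range in the open right half plane. -/
theorem NearOne.re_inner_mul_pos (hσ : ∀ g w, ‖σ g w‖ = ‖w‖) {a b : G} (ha : NearOne σ a)
    (hb : NearOne σ b) {v : E} (hv : v ≠ 0) : 0 < (⟪v, σ (a * b) v⟫_ℂ).re := by
  have h1 : ⟪v, σ (a * b) v⟫_ℂ = ⟪σ a⁻¹ v, σ b v⟫_ℂ := by
    rw [← inner_apply_apply hσ a⁻¹ v, ← apply_mul_apply a b, apply_inv_apply]
  rw [h1]
  have hvpos : 0 < ‖v‖ := norm_pos_iff.mpr hv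
  have hd : ‖σ a⁻¹ v - σ b v‖ < ‖v‖ := by
    have e : σ a⁻¹ v - σ b v = (σ a⁻¹ - ((√3 / 2 : ℝ) : ℂ) • (1 : E →L[ℂ] E)) v -
        (σ b - ((√3 / 2 : ℝ) : ℂ) • (1 : E →L[ℂ] E)) v := by simp
    rw [e]
    refine (norm_sub_le _ _).trans_lt ?_
    have h2 := mul_lt_mul_of_pos_right ha.2 hvpos
    have h3 := mul_lt_mul_of_pos_right hb.1 hvpos
    have h4 := (σ a⁻¹ - ((√3 / 2 : ℝ) : ℂ) • (1 : E →L[ℂ] E)).le_opNorm v
    have h5 := (σ b - ((√3 / 2 : ℝ) : ℂ) • (1 : E →L[ℂ] E)).le_opNorm v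
    linarith
  have h2 := norm_sub_sq (𝕜 := ℂ) (σ a⁻¹ v) (σ b v)
  rw [hσ a⁻¹, hσ b] at h2
  have h2' : ‖σ a⁻¹ v - σ b v‖ ^ 2 =
      2 * ‖v‖ ^ 2 - 2 * (⟪σ a⁻¹ v, σ b v⟫_ℂ).re := by
    rw [h2, RCLike.re_to_complex]; ring
  nlinarith [norm_nonneg (σ a⁻¹ v - σ b v)]

variable [FiniteDimensional ℂ E] [Finite G]

/-- Frobenius' lemma: if `g` commutes with its conjugate by `x`, whose numerical range lies in the
open right half plane, then the actions of `g` and `x` commute. -/
theorem commute_of_commute_conj (hσ : ∀ g w, ‖σ g w‖ = ‖w‖) (g x : G)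
    (hc : Commute g (x * g * x⁻¹)) (hx : ∀ v : E, v ≠ 0 → 0 < (⟪v, σ x v⟫_ℂ).re) :
    σ (g * x) = σ (x * g) := by
  obtain ⟨b, μ, hb, hμ, -⟩ := exists_eigenbasis
    (MonoidHom.comp (ContinuousLinearMap.toLinearMapRingHom.toMonoidHom) σ :
      Representation ℂ G E) g
  have hb' : ∀ i, σ g (b i) = μ i • b i := hb
  refine ContinuousLinearMap.coe_inj.mp (b.ext fun i => ?_)
  show σ (g * x) (b i) = σ (x * g) (b i)
  rw [← apply_mul_apply, ← apply_mul_apply, hb' i, map_smul]
  set a := μ i with ha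
  set w := σ x (b i) with hw
  set u := σ g w - a • w with hu
  -- `u` is the image under `x` of a vector fixed up to the scalar `a` by `g`
  have hgv : σ g (σ x⁻¹ u) = a • σ x⁻¹ u := by
    have e1 : σ (x * g * x⁻¹) w = a • w := by
      rw [hw, apply_mul_apply, inv_mul_cancel_right, ← apply_mul_apply, hb' i, map_smul]
    have e2 : σ (x * g * x⁻¹) u = a • u := by
      rw [hu, map_sub, map_smul, e1, apply_mul_apply, ← hc.eq, ← apply_mul_apply, e1, map_smul,
        smul_sub]
    rw [apply_mul_apply, show g * x⁻¹ = x⁻¹ * (x * g * x⁻¹) by group, ← apply_mul_apply, e2,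
      map_smul]
  set v := σ x⁻¹ u with hv
  have hna : ‖a‖ = 1 := Complex.norm_eq_one_of_pow_eq_one (hμ i) (orderOf_pos g).ne'
  have horth : ⟪v, u⟫_ℂ = 0 := by
    have h1 : ⟪v, σ g w⟫_ℂ = a * ⟪v, w⟫_ℂ := by
      have h2 : conj a * ⟪v, σ g w⟫_ℂ = ⟪v, w⟫_ℂ := by
        rw [← inner_smul_left, ← hgv, inner_apply_apply hσ]
      rw [← h2, ← mul_assoc, Complex.mul_conj, Complex.normSq_eq_norm_sq, hna, one_pow,
        Complex.ofReal_one, one_mul]
    rw [hu, inner_sub_right, inner_smul_right, h1, sub_self]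
  by_contra hne
  have hu0 : u ≠ 0 := fun h => hne (by rw [hu, sub_eq_zero] at h; exact h)
  have hv0 : v ≠ 0 := fun h => hu0 (by
    have h' := congrArg (σ x) h
    rw [hv, map_zero, apply_mul_apply, mul_inv_cancel, map_one] at h'
    exact h')
  have := hx v hv0
  rw [hv, apply_mul_apply x x⁻¹, mul_inv_cancel, map_one] at this
  rw [← hv] at this
  simp only [ContinuousLinearMap.one_apply, horth, Complex.zero_re] at this
  exact lt_irrefl 0 this

/-- Frobenius: near-one elements of a faithful unitary finite group commute. -/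
theorem NearOne.commute (hσ : ∀ g w, ‖σ g w‖ = ‖w‖) (hinj : Function.Injective σ) {g h : G}
    (hg : NearOne σ g) (hh : NearOne σ h) : Commute g h := by
  let C : G → G := fun x => g * x * g⁻¹ * x⁻¹
  have hdec : ∀ x, C x ≠ 1 → ‖σ (C x) - 1‖ < ‖σ x - 1‖ := by
    intro x hx
    set D := σ g - ((√3 / 2 : ℝ) : ℂ) • (1 : E →L[ℂ] E) with hD
    have hX : σ x - 1 ≠ 0 := by
      intro h0
      rw [sub_eq_zero, ← map_one σ] at h0
      exact hx (by simp [C, hinj h0])
    have e : σ (C x) - 1 = (D * (σ x - 1) - (σ x - 1) * D) * σ (g⁻¹ * x⁻¹) := by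
      have e2 : D * (σ x - 1) - (σ x - 1) * D = σ (g * x) - σ (x * g) := by
        rw [hD, map_mul, map_mul]
        simp only [sub_mul, mul_sub, smul_mul_assoc, mul_smul_comm, one_mul, mul_one, smul_sub]
        abel
      rw [e2, sub_mul, ← map_mul, ← map_mul]
      rw [show x * g * (g⁻¹ * x⁻¹) = 1 by group, map_one,
        show g * x * (g⁻¹ * x⁻¹) = C x by simp only [C]; group]
    rw [e]
    have hXpos : 0 < ‖σ x - 1‖ := norm_pos_iff.mpr hX
    calc _ ≤ ‖D * (σ x - 1) - (σ x - 1) * D‖ * ‖σ (g⁻¹ * x⁻¹)‖ := norm_mul_le _ _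
      _ ≤ ‖D * (σ x - 1) - (σ x - 1) * D‖ * 1 :=
          mul_le_mul_of_nonneg_left (norm_apply_le_one hσ _) (norm_nonneg _)
      _ ≤ ‖D‖ * ‖σ x - 1‖ + ‖σ x - 1‖ * ‖D‖ := by
          rw [mul_one]
          exact (norm_sub_le _ _).trans (add_le_add (norm_mul_le _ _) (norm_mul_le _ _))
      _ < ‖σ x - 1‖ := by
          have : ‖D‖ * ‖σ x - 1‖ < 1 / 2 * ‖σ x - 1‖ := mul_lt_mul_of_pos_right hg.1 hXpos
          linarith
  -- some iterate commutes with `g`
  obtain ⟨m, hm⟩ : ∃ m : ℕ, C (C^[m] h) = 1 := by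
    by_contra hcon
    push Not at hcon
    have hsa : StrictAnti fun m => ‖σ (C^[m] h) - 1‖ := strictAnti_nat_of_succ_lt fun m => by
      rw [Function.iterate_succ_apply']
      exact hdec _ (hcon m)
    exact not_injective_infinite_finite (fun m => C^[m] h)
      (Function.Injective.of_comp (f := fun y => ‖σ y - 1‖) hsa.injective)
  have hhalf : ∀ m, ∀ v : E, v ≠ 0 → 0 < (⟪v, σ (C^[m] h) v⟫_ℂ).re := by
    intro m v hv
    cases m with
    | zero =>
      have h1 := hh.re_inner_mul_pos hσ (b := (1 : G)) ?_ hv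
      · simpa using h1
      · refine ⟨?_, ?_⟩ <;>
        · simp only [inv_one, map_one]
          rw [show (1 : E →L[ℂ] E) - ((√3 / 2 : ℝ) : ℂ) • 1 = ((1 - √3 / 2 : ℝ) : ℂ) • 1 by
            rw [Complex.ofReal_sub, sub_smul, Complex.ofReal_one, one_smul]]
          have h3 : (1.7 : ℝ) < √3 := by
            rw [Real.lt_sqrt (by norm_num)]; norm_num
          have h4 : √3 ≤ 2 := by rw [Real.sqrt_le_iff]; norm_num
          calc _ ≤ ‖((1 - √3 / 2 : ℝ) : ℂ)‖ * ‖(1 : E →L[ℂ] E)‖ := norm_smul_le _ _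
            _ ≤ (1 - √3 / 2) * 1 := by
              rw [Complex.norm_real, Real.norm_eq_abs, abs_of_nonneg (by linarith)]
              exact mul_le_mul_of_nonneg_left ContinuousLinearMap.norm_id_le (by linarith)
            _ < 1 / 2 := by linarith
    | succ m =>
      rw [Function.iterate_succ_apply']
      have := hg.re_inner_mul_pos hσ (hg.inv.conj hσ (C^[m] h)) hv
      simpa [C, mul_assoc] using this
  -- descend
  have hdown : ∀ j, C (C^[j] h) = 1 → C h = 1 := by
    intro j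
    induction j with
    | zero => exact id
    | succ j ih =>
      intro hj
      refine ih ?_
      set x := C^[j] h with hx
      rw [Function.iterate_succ_apply', ← hx] at hj
      have hc : Commute g (C x) := by
        have : g * C x * g⁻¹ * (C x)⁻¹ = 1 := hj
        rw [mul_inv_eq_one, mul_inv_eq_iff_eq_mul] at this
        exact this
      have hc' : Commute g (x * g⁻¹ * x⁻¹) := by
        have h1 := ((Commute.refl g).inv_right).mul_right hc
        simpa [C, mul_assoc] using h1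
      have hc'' : Commute g (x * g * x⁻¹) := by
        have := hc'.inv_right
        simpa [mul_assoc] using this
      have := hinj (commute_of_commute_conj hσ g x hc'' (hhalf j))
      show g * x * g⁻¹ * x⁻¹ = 1
      rw [this]; group
  have := hdown m hm
  show g * h = h * g
  have h' : g * h * g⁻¹ * h⁻¹ = 1 := this
  rw [mul_inv_eq_one, mul_inv_eq_iff_eq_mul] at h'
  exact h'

/-- An element whose eigenvalues have real part above `√3/2` is near one. -/
theorem norm_sub_lt_of_eigenbasis (hσ : ∀ g w, ‖σ g w‖ = ‖w‖) (q : G) {ι : Type*} [Fintype ι]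
    (b : Basis ι ℂ E) (μ : ι → ℂ) (hb : ∀ i, σ q (b i) = μ i • b i)
    (hre : ∀ i, √3 / 2 < (μ i).re) :
    ‖σ q - ((√3 / 2 : ℝ) : ℂ) • (1 : E →L[ℂ] E)‖ < 1 / 2 := by
  classical
  set r : ℝ := √3 / 2 with hr
  have hr0 : 0 < r := by positivity
  have hr2 : r ^ 2 = 3 / 4 := by
    rw [hr, div_pow, Real.sq_sqrt (by norm_num)]; norm_num
  rcases isEmpty_or_nonempty ι with hι | hι
  · have : Subsingleton E := b.repr.toEquiv.subsingleton
    rw [Subsingleton.elim (σ q - (r : ℂ) • (1 : E →L[ℂ] E)) 0, norm_zero]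
    norm_num
  obtain ⟨i₀, -, hi₀⟩ := Finset.exists_min_image Finset.univ (fun i => (μ i).re)
    Finset.univ_nonempty
  set m := (μ i₀).re
  have hnorm : ∀ i, ‖μ i‖ = 1 := fun i => by
    have := hσ q (b i)
    rw [hb, norm_smul] at this
    exact (mul_eq_right₀ (norm_ne_zero_iff.mpr (b.ne_zero i))).mp this
  have horth : ∀ i j, μ i ≠ μ j → ⟪b i, b j⟫_ℂ = 0 := fun i j hij => by
    have h := inner_apply_apply hσ q (b i) (b j)
    rw [hb, hb, inner_smul_left, inner_smul_right] at h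
    by_contra hne
    apply hij
    have h1 : conj (μ i) * μ j = 1 := mul_right_cancel₀ hne (by rw [mul_assoc, h, one_mul])
    calc μ i = μ i * (conj (μ i) * μ j) := by rw [h1, mul_one]
      _ = μ j := by
        rw [← mul_assoc, Complex.mul_conj, Complex.normSq_eq_norm_sq, hnorm, one_pow,
          Complex.ofReal_one, one_mul]
  have hkey : ∀ v : E, m * ‖v‖ ^ 2 ≤ (⟪v, σ q v⟫_ℂ).re := by
    intro v
    set S := Finset.univ.image μ
    set P : ℂ → E := fun a => ∑ i ∈ Finset.univ.filter (fun i => μ i = a), b.repr v i • b i with hP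
    have hv : v = ∑ a ∈ S, P a := by
      rw [hP, Finset.sum_fiberwise_of_maps_to (fun i hi => Finset.mem_image_of_mem μ hi),
        b.sum_repr]
    have hqP : ∀ a, σ q (P a) = a • P a := fun a => by
      simp only [hP, map_sum, map_smul, Finset.smul_sum]
      refine Finset.sum_congr rfl fun i hi => ?_
      rw [hb, (Finset.mem_filter.mp hi).2, smul_comm]
    have hPorth : ∀ a c, a ≠ c → ⟪P a, P c⟫_ℂ = 0 := fun a c hac => by
      simp only [hP, sum_inner, inner_sum]
      refine Finset.sum_eq_zero fun i hi => Finset.sum_eq_zero fun j hj => ?_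
      rw [inner_smul_left, inner_smul_right, horth _ _ ?_, mul_zero, mul_zero]
      rw [(Finset.mem_filter.mp hi).2, (Finset.mem_filter.mp hj).2]
      first | exact hac | exact hac.symm
    have h1 : ∀ f : ℂ → ℂ, ⟪v, ∑ a ∈ S, f a • P a⟫_ℂ = ∑ a ∈ S, f a * ⟪P a, P a⟫_ℂ := fun f => by
      rw [inner_sum]
      refine Finset.sum_congr rfl fun a ha => ?_
      rw [inner_smul_right, hv, sum_inner, Finset.sum_eq_single a]
      · exact fun c _ hc => hPorth c a hc
      · exact fun h => absurd ha h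
    have h2 : ⟪v, σ q v⟫_ℂ = ∑ a ∈ S, a * ((‖P a‖ ^ 2 : ℝ) : ℂ) := by
      conv_lhs => arg 3; rw [hv, map_sum, Finset.sum_congr rfl fun a _ => hqP a]
      rw [h1 fun a => a]
      exact Finset.sum_congr rfl fun a _ => by
        rw [inner_self_eq_norm_sq_to_K]; simp
    have h3 : ⟪v, v⟫_ℂ = ∑ a ∈ S, ((‖P a‖ ^ 2 : ℝ) : ℂ) := by
      conv_lhs => arg 3; rw [hv]
      have := h1 fun _ => 1
      simp only [one_smul, one_mul] at this
      rw [this]
      exact Finset.sum_congr rfl fun a _ => by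
        rw [inner_self_eq_norm_sq_to_K]; simp
    have h4 : ‖v‖ ^ 2 = ∑ a ∈ S, ‖P a‖ ^ 2 := by
      have := congrArg Complex.re h3
      rw [inner_self_eq_norm_sq_to_K] at this
      simpa [← Complex.ofReal_pow] using this
    rw [h2, h4, Complex.re_sum, Finset.mul_sum]
    refine Finset.sum_le_sum fun a ha => ?_
    obtain ⟨i, -, rfl⟩ := Finset.mem_image.mp ha
    rw [Complex.re_mul_ofReal]
    exact mul_le_mul_of_nonneg_right (hi₀ i (Finset.mem_univ i)) (sq_nonneg _)
  have hbound : ‖σ q - (r : ℂ) • (1 : E →L[ℂ] E)‖ ≤ √(1 + r ^ 2 - 2 * r * m) := by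
    refine ContinuousLinearMap.opNorm_le_bound _ (Real.sqrt_nonneg _) fun v => ?_
    rw [← Real.sqrt_sq (norm_nonneg v), ← Real.sqrt_mul' _ (sq_nonneg _)]
    refine Real.le_sqrt_of_sq_le ?_
    have h5 := norm_sub_sq (𝕜 := ℂ) (σ q v) ((r : ℂ) • v)
    rw [hσ, norm_smul, Complex.norm_real, Real.norm_eq_abs, abs_of_pos hr0, inner_smul_right,
      RCLike.re_to_complex, Complex.re_ofReal_mul, ← inner_conj_symm (σ q v) v,
      Complex.conj_re] at h5
    simp only [ContinuousLinearMap.sub_apply, ContinuousLinearMap.smul_apply,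
      ContinuousLinearMap.one_apply]
    rw [h5]
    nlinarith [hkey v]
  refine hbound.trans_lt ?_
  rw [Real.sqrt_lt' (by norm_num)]
  have hm : r < m := hre i₀
  nlinarith

/-- An element whose eigenvalues have real part above `√3/2` is near one, with its inverse. -/
theorem nearOne_of_eigenbasis (hσ : ∀ g w, ‖σ g w‖ = ‖w‖) (q : G) {ι : Type*} [Fintype ι]
    (b : Basis ι ℂ E) (μ : ι → ℂ) (hb : ∀ i, σ q (b i) = μ i • b i)
    (hre : ∀ i, √3 / 2 < (μ i).re) : NearOne σ q := by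
  have hnorm : ∀ i, ‖μ i‖ = 1 := fun i => by
    have := hσ q (b i)
    rw [hb, norm_smul] at this
    exact (mul_eq_right₀ (norm_ne_zero_iff.mpr (b.ne_zero i))).mp this
  refine ⟨norm_sub_lt_of_eigenbasis hσ q b μ hb hre,
    norm_sub_lt_of_eigenbasis hσ q⁻¹ b (fun i => conj (μ i)) (fun i => ?_) fun i => by
      rw [Complex.conj_re]; exact hre i⟩
  have h1 : σ q⁻¹ (σ q (b i)) = b i := apply_inv_apply q (b i)
  rw [hb, map_smul] at h1
  conv_rhs => rw [← h1]
  rw [smul_smul, mul_comm, Complex.mul_conj, Complex.normSq_eq_norm_sq, hnorm, one_pow,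
    Complex.ofReal_one, one_smul]

end Frobenius

/-- Commuting finite-order operators have a common eigenbasis. -/
theorem exists_common_eigenbasis {H : Type*} [Group H] [Finite H] {V : Type*} [AddCommGroup V]
    [Module ℂ V] [FiniteDimensional ℂ V] (ρ : Representation ℂ H V)
    (hc : ∀ a b : H, a * b = b * a) :
    ∃ (b : Basis (Fin (finrank ℂ V)) ℂ V) (μ : Fin (finrank ℂ V) → H → ℂ),
      ∀ i h, ρ h (b i) = μ i h • b i := by
  have hss : ∀ h, Module.End.IsSemisimple (ρ h) := fun h => by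
    refine Module.End.isSemisimple_of_squarefree_aeval_eq_zero
      (p := Polynomial.X ^ orderOf h - 1) ((Polynomial.X_pow_sub_one_separable_iff.mpr
        (Nat.cast_ne_zero.mpr (orderOf_pos h).ne')).squarefree) ?_
    have hpow : (ρ h : Module.End ℂ V) ^ orderOf h = 1 := by
      rw [← map_pow, pow_orderOf_eq_one, map_one]
    rw [map_sub, map_pow, Polynomial.aeval_X, hpow, map_one, sub_self]
  have htop : Submodule.span ℂ {v : V | ∀ h, ∃ c : ℂ, ρ h v = c • v} = ⊤ := by
    rw [eq_top_iff, ← Module.End.iSup_iInf_maxGenEigenspace_eq_top_of_forall_mapsTo (fun h => ρ h)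
      (fun i j φ => Module.End.mapsTo_maxGenEigenspace_of_comm
        (show Commute (ρ j) (ρ i) by
          show ρ j * ρ i = ρ i * ρ j
          rw [← map_mul, ← map_mul, hc]) φ)
      (fun h => Module.End.iSup_maxGenEigenspace_eq_top _)]
    refine iSup_le fun χ v hv => Submodule.subset_span fun h => ⟨χ h, ?_⟩
    have := (Submodule.mem_iInf _).mp hv h
    rw [Module.End.IsFinitelySemisimple.maxGenEigenspace_eq_eigenspace
      (hss h).isFinitelySemisimple] at this
    exact Module.End.mem_eigenspace_iff.mp this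
  obtain ⟨s, hsS, hsspan, hsli⟩ :=
    exists_linearIndependent ℂ {v : V | ∀ h, ∃ c : ℂ, ρ h v = c • v}
  rw [htop] at hsspan
  set b₁ : Basis s ℂ V := Basis.mk hsli (by simp [hsspan]) with hb₁
  have : Fintype s := FiniteDimensional.fintypeBasisIndex b₁
  set b := b₁.reindex (Fintype.equivFinOfCardEq (Module.finrank_eq_card_basis b₁).symm) with hb
  have hex : ∀ i, ∀ h, ∃ c : ℂ, ρ h (b i) = c • b i := by
    intro i
    have h := hsS ((Fintype.equivFinOfCardEq (Module.finrank_eq_card_basis b₁).symm).symm i).2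
    simpa [hb, hb₁] using h
  choose μ hμ using hex
  exact ⟨b, μ, hμ⟩

/-- The box of the argument of a complex number among `12` boxes of width `π / 6`. -/
noncomputable def argBox (z : ℂ) : Fin 12 :=
  Fin.ofNat 12 ⌊(z.arg + Real.pi) / (Real.pi / 6)⌋₊

/-- Two unit complex numbers in the same box have a quotient of real part above `√3/2`. -/
theorem re_conj_mul_gt {z w : ℂ} (hz : ‖z‖ = 1) (hw : ‖w‖ = 1) (h : argBox z = argBox w) :
    √3 / 2 < (conj z * w).re := by
  have hπ := Real.pi_pos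
  set tz := (z.arg + Real.pi) / (Real.pi / 6) with htz
  set tw := (w.arg + Real.pi) / (Real.pi / 6) with htw
  have bound : ∀ u : ℂ, 0 < (u.arg + Real.pi) / (Real.pi / 6) ∧
      (u.arg + Real.pi) / (Real.pi / 6) ≤ 12 := fun u =>
    ⟨div_pos (by linarith [Complex.neg_pi_lt_arg u]) (by positivity),
      by rw [div_le_iff₀ (by positivity)]; linarith [Complex.arg_le_pi u]⟩
  have hmod : ⌊tz⌋₊ % 12 = ⌊tw⌋₊ % 12 := by
    simpa [argBox, Fin.ext_iff, Fin.val_ofNat] using h
  have fz : (⌊tz⌋₊ : ℝ) ≤ tz ∧ tz < ⌊tz⌋₊ + 1 :=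
    ⟨Nat.floor_le (bound z).1.le, Nat.lt_floor_add_one _⟩
  have fw : (⌊tw⌋₊ : ℝ) ≤ tw ∧ tw < ⌊tw⌋₊ + 1 :=
    ⟨Nat.floor_le (bound w).1.le, Nat.lt_floor_add_one _⟩
  have kz : ⌊tz⌋₊ ≤ 12 := Nat.floor_le_of_le (bound z).2
  have kw : ⌊tw⌋₊ ≤ 12 := Nat.floor_le_of_le (bound w).2
  have hre : (conj z * w).re = Real.cos (w.arg - z.arg) := by
    conv_lhs => rw [← Complex.norm_mul_exp_arg_mul_I z, ← Complex.norm_mul_exp_arg_mul_I w, hz, hw]
    simp [Complex.exp_re, Complex.exp_im, Real.cos_sub]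
    ring
  rw [hre]
  have hsmall : ∀ t : ℝ, |t| < Real.pi / 6 → √3 / 2 < Real.cos t := fun t ht => by
    rw [← Real.cos_pi_div_six, ← Real.cos_abs t]
    exact Real.cos_lt_cos_of_nonneg_of_le_pi (abs_nonneg _) (by linarith) ht
  have ez : z.arg = tz * (Real.pi / 6) - Real.pi := by
    rw [htz]; field_simp; ring
  have ew : w.arg = tw * (Real.pi / 6) - Real.pi := by
    rw [htw]; field_simp; ring
  have hp6 : (0 : ℝ) < Real.pi / 6 := by positivity
  rcases (show ⌊tz⌋₊ = ⌊tw⌋₊ ∨ (⌊tz⌋₊ = 0 ∧ ⌊tw⌋₊ = 12) ∨ (⌊tz⌋₊ = 12 ∧ ⌊tw⌋₊ = 0) by omega) with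
    h | ⟨h1, h2⟩ | ⟨h1, h2⟩
  · refine hsmall _ ?_
    rw [ez, ew, abs_lt]
    have hh : (⌊tz⌋₊ : ℝ) = ⌊tw⌋₊ := by exact_mod_cast h
    constructor <;> nlinarith
  · rw [← Real.cos_sub_two_pi]
    refine hsmall _ ?_
    rw [ez, ew, abs_lt]
    have e1 : (⌊tz⌋₊ : ℝ) = 0 := by exact_mod_cast h1
    have e2 : (⌊tw⌋₊ : ℝ) = 12 := by exact_mod_cast h2
    constructor <;> nlinarith [(bound w).2, (bound z).1]
  · rw [← Real.cos_add_two_pi]
    refine hsmall _ ?_
    rw [ez, ew, abs_lt]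
    have e1 : (⌊tz⌋₊ : ℝ) = 12 := by exact_mod_cast h1
    have e2 : (⌊tw⌋₊ : ℝ) = 0 := by exact_mod_cast h2
    constructor <;> nlinarith [(bound w).1, (bound z).2]

/-- A faithful linear group of degree `n` has an abelian normal subgroup meeting every abelian
subgroup in index at most `12 ^ n`. -/
theorem exists_abelian_normal_uniform_bound {G : Type*} [Group G] [Finite G] {n : ℕ}
    (ρ : Representation ℂ G (Fin n → ℂ)) (hinj : Function.Injective ρ) :
    ∃ A : Subgroup G, A.Normal ∧ (∀ x ∈ A, ∀ y ∈ A, x * y = y * x) ∧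
      ∀ H : Subgroup G, (∀ x ∈ H, ∀ y ∈ H, x * y = y * x) →
        (A.subgroupOf H).index ≤ 12 ^ n := by
  have := Fintype.ofFinite G
  obtain ⟨σ, e, hσe, hσ⟩ := exists_unitary_form ρ
  have hσinj : Function.Injective σ := fun a b hab => hinj (LinearMap.ext fun v => e.injective (by
    rw [← hσe, ← hσe, hab]))
  set S : Set G := {g | NearOne σ g} with hS
  refine ⟨Subgroup.closure S, ⟨fun x hx g => ?_⟩, ?_, fun H hH => ?_⟩
  · induction hx using Subgroup.closure_induction with
    | mem y hy => exact Subgroup.subset_closure (hy.conj hσ g)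
    | one => simp
    | mul y z _ _ hy hz =>
      rw [show g * (y * z) * g⁻¹ = (g * y * g⁻¹) * (g * z * g⁻¹) by group]
      exact mul_mem hy hz
    | inv y _ hy =>
      rw [show g * y⁻¹ * g⁻¹ = (g * y * g⁻¹)⁻¹ by group]
      exact inv_mem hy
  · intro x hx y hy
    have key : ∀ s ∈ S, ∀ y ∈ Subgroup.closure S, Commute s y := fun s hs y hy => by
      induction hy using Subgroup.closure_induction with
      | mem t ht => exact NearOne.commute hσ hσinj hs ht
      | one => exact Commute.one_right _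
      | mul a b _ _ ha hb => exact ha.mul_right hb
      | inv a _ ha => exact ha.inv_right
    have : Commute x y := by
      induction hx using Subgroup.closure_induction with
      | mem t ht => exact key t ht y hy
      | one => exact Commute.one_left _
      | mul a b _ _ ha hb => exact ha.mul_left hb
      | inv a _ ha => exact ha.inv_left
    exact this
  · set A := Subgroup.closure S with hA
    let σH : Representation ℂ H (EuclideanSpace ℂ (Fin n)) :=
      (ContinuousLinearMap.toLinearMapRingHom.toMonoidHom.comp σ).comp H.subtype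
    obtain ⟨b, μ, hb⟩ := exists_common_eigenbasis σH
      (fun x y => Subtype.ext (hH x x.2 y y.2))
    have hb' : ∀ i (h : H), σ (h : G) (b i) = μ i h • b i := hb
    have hdim : finrank ℂ (EuclideanSpace ℂ (Fin n)) = n := finrank_euclideanSpace_fin
    let F : H ⧸ A.subgroupOf H → (Fin (finrank ℂ (EuclideanSpace ℂ (Fin n))) → Fin 12) := fun q i =>
      argBox (μ i q.out)
    have hF : Function.Injective F := by
      intro q₁ q₂ hq
      rw [← QuotientGroup.out_eq' q₁, ← QuotientGroup.out_eq' q₂, QuotientGroup.eq,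
        Subgroup.mem_subgroupOf]
      refine Subgroup.subset_closure ?_
      have hn : ∀ i (h : H), ‖μ i h‖ = 1 := fun i h => by
        have := hσ (h : G) (b i)
        rw [hb', norm_smul] at this
        exact (mul_eq_right₀ (norm_ne_zero_iff.mpr (b.ne_zero i))).mp this
      refine nearOne_of_eigenbasis hσ _ b (fun i => conj (μ i q₁.out) * μ i q₂.out)
        (fun i => ?_) (fun i => re_conj_mul_gt (hn i _) (hn i _) (congrFun hq i))
      have h1 : σ (q₁.out : G)⁻¹ (σ (q₁.out : G) (b i)) = b i := apply_inv_apply _ _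
      rw [hb', map_smul] at h1
      rw [Subgroup.coe_mul, Subgroup.coe_inv, ← apply_mul_apply, hb', map_smul]
      conv_rhs => rw [← h1]
      rw [smul_smul, mul_assoc, mul_comm (μ i q₂.out), ← mul_assoc, mul_comm (conj _),
        Complex.mul_conj, Complex.normSq_eq_norm_sq, hn, one_pow, Complex.ofReal_one, one_mul]
    have := Nat.card_le_card_of_injective F hF
    rw [← Subgroup.index_eq_card, Nat.card_eq_fintype_card, Fintype.card_fun, Fintype.card_fin,
      Fintype.card_fin, hdim] at this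
    exact this

end Cfsg.Agent.H25
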