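import Mathlib
import Cfsg.Prelude.Def_Blocks
import Cfsg.Agent.H25.IndRep
import Cfsg.Agent.H25.Faithful
import Cfsg.Agent.H26.CharOrtho
import Cfsg.Agent.H26.CharLinear

/-!
# Linear characters of a Sylow subgroup when all nonlinear degrees are divisible by `p`
-/

set_option autoImplicit false

namespace Cfsg.Agent.H25

/-- An element outside the commutator subgroup is separated from `1` by a linear character. -/
theorem exists_linear_sep {P : Type*} [Group P] [Finite P] {x : P} (hx : x ∉ commutator P) :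
    ∃ lam : P →* ℂˣ, lam x ≠ 1 := by
  have : Finite (Abelianization P) := Finite.of_surjective _ (QuotientGroup.mk'_surjective _)
  have : NeZero (Monoid.exponent (Abelianization P)) := ⟨Monoid.exponent_ne_zero_of_finite⟩
  have hx' : (Abelianization.of x) ≠ 1 := fun h => hx ((QuotientGroup.eq_one_iff x).mp h)
  obtain ⟨φ, hφ⟩ := CommGroup.exists_apply_ne_one_of_hasEnoughRootsOfUnity (Abelianization P) ℂ hx'
  exact ⟨φ.comp Abelianization.of, hφ⟩

/-- If `p` divides every nonlinear irreducible degree then every linear character of a Sylow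
`p`-subgroup extends, so `P ∩ G' ≤ P'`. -/
theorem sylow_inf_commutator_le {G : Type*} [Group G] [Finite G] {p : ℕ} [Fact p.Prime]
    (hdeg : ∀ χ : Cfsg.IrrCharacter G, Cfsg.charDegree (χ : G → ℂ) ≠ 1 →
      p ∣ Cfsg.charDegree (χ : G → ℂ))
    (P : Sylow p G) :
    ∀ x : (P : Subgroup G), (x : G) ∈ commutator G → x ∈ commutator (P : Subgroup G) := by
  classical
  have := Fintype.ofFinite G
  intro x hx
  by_contra hx'
  obtain ⟨lam, hlam⟩ := exists_linear_sep hx'
  set θ : ↥(P : Subgroup G) → ℂ := fun y => (lam y : ℂ) with hθdef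
  have hθi : Cfsg.IsIrrCharacter (P : Subgroup G) θ := H26.isIrrCharacter_hom lam
  have hθ1 : θ 1 = 1 := by simp [hθdef]
  obtain ⟨m, hm, hsum⟩ :=
    H26.exists_nat_coeffs (isCharacter_indFun (P : Subgroup G) (H26.isCharacter_of_irr hθi))
  have hdeg1 : ∀ ψ : Cfsg.IrrCharacter G, ψ.1 1 = (Cfsg.charDegree ψ.1 : ℂ) := fun ψ => by
    obtain ⟨n, ρ, -, e⟩ := ψ.2
    rw [← e, charDegree_character]; simp
  -- some linear constituent
  obtain ⟨ψ, hmψ, hψ1⟩ : ∃ ψ : Cfsg.IrrCharacter G, m ψ ≠ 0 ∧ Cfsg.charDegree ψ.1 = 1 := by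
    by_contra hcon
    push Not at hcon
    have h1 := congrFun hsum 1
    rw [indFun_one, hθ1, mul_one, Finset.sum_apply] at h1
    have h2 : ((P : Subgroup G).index : ℂ) =
        ((∑ ψ : Cfsg.IrrCharacter G, m ψ * Cfsg.charDegree ψ.1 : ℕ) : ℂ) := by
      rw [h1]; push_cast
      exact Finset.sum_congr rfl fun ψ _ => by
        rw [Pi.smul_apply, smul_eq_mul, hdeg1]
    apply P.not_dvd_index
    rw [Nat.cast_inj.mp h2]
    refine Finset.dvd_sum fun ψ _ => ?_
    by_cases h : m ψ = 0
    · simp [h]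
    · exact Dvd.dvd.mul_left (hdeg ψ (hcon ψ h)) _
  obtain ⟨f, hf⟩ := H26.exists_hom_of_isCharacter_one (H26.irr_isCharacter ψ)
    (by rw [hdeg1, hψ1, Nat.cast_one])
  have hres := classInner_indFun_left (P : Subgroup G) θ ψ.1 (H26.irr_isClassFunction ψ)
  rw [hm ψ] at hres
  set ψP : Cfsg.IrrCharacter (P : Subgroup G) :=
    ⟨fun h => ((f.comp (P : Subgroup G).subtype) h : ℂ),
      H26.isIrrCharacter_hom (f.comp (P : Subgroup G).subtype)⟩ with hψP
  have hψP' : (fun h : (P : Subgroup G) => ψ.1 h) = ψP.1 := by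
    funext h; simp [hψP, hf]
  rw [hψP', H26.classInner_irr (⟨θ, hθi⟩ : Cfsg.IrrCharacter (P : Subgroup G)) ψP] at hres
  split_ifs at hres with heq
  · apply hlam
    have h1 : (lam x : ℂ) = (f (x : G) : ℂ) := congrFun (congrArg Subtype.val heq) x
    have h2 : f (x : G) = 1 := by
      have := Abelianization.commutator_subset_ker f hx
      exact this
    rw [h2] at h1
    exact Units.ext h1
  · exact hmψ (by exact_mod_cast hres)

end Cfsg.Agent.H25
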