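import Mathlib
import Cfsg.Prelude.Def_Blocks
import Cfsg.Agent.H25.Burnside
import Cfsg.Agent.H25.LinearExtend
import Cfsg.Agent.H40.Residue
import Cfsg.Agent.H42.MaxIdeal
import Cfsg.Agent.H19.MinimalNormal
import Cfsg.Agent.H19.Frattini
import Cfsg.Agent.H19.Cores
import Cfsg.Agent.H20.Sylow
import Cfsg.Agent.H26.CharLinear

/-!
# Kazarin's theorem: an element with a class of prime power size generates a solvable normal
subgroup

The proof uses only Burnside's lemma, extension of linear characters, and weak orthogonality in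
the principal block; the latter enters as the hypothesis `WeakOrthAtOne`.
-/

set_option autoImplicit false

open Module
open scoped ComplexConjugate Pointwise

namespace Cfsg.Agent.H25

universe u

/-- Weak block orthogonality between `1` and the singular elements, for the principal block. -/
def WeakOrthAtOne (G : Type u) [Group G] : Prop :=
  ∀ (r : ℕ) [Fact r.Prime] (M : Ideal Cfsg.AlgInt), Cfsg.IsPModular r M → ∀ u : G, r ∣ orderOf u →
    ∑ᶠ χ ∈ Cfsg.principalBlock M G, (χ : G → ℂ) 1 * conj ((χ : G → ℂ) u) = 0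

/-- An `r`-th root of unity is `1` modulo a prime above `r`. -/
theorem sub_one_mem_of_pow_prime_eq_one {r : ℕ} {M : Ideal Cfsg.AlgInt}
    (hM : Cfsg.IsPModular r M) {ζ : Cfsg.AlgInt} (h : ζ ^ r = 1) : ζ - 1 ∈ M := by
  haveI := hM.2.1
  have : Fact r.Prime := ⟨hM.1⟩
  rw [← Ideal.Quotient.eq_zero_iff_mem]
  haveI : CharP (Cfsg.AlgInt ⧸ M) r := ⟨fun n => by
      rw [← map_natCast (Ideal.Quotient.mk M), Ideal.Quotient.eq_zero_iff_mem,
        H40.natCast_mem_iff hM]⟩
  have h2 : (Ideal.Quotient.mk M (ζ - 1)) ^ r = 0 := by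
    rw [map_sub, map_one, sub_pow_char, one_pow, ← map_pow, h, map_one, sub_self]
  exact eq_zero_of_pow_eq_zero h2

/-- If a character vanishes at an element of prime order `r` then `r` divides the degree. -/
theorem prime_dvd_degree_of_char_eq_zero {G : Type*} [Group G] [Finite G] {V : Type*}
    [AddCommGroup V] [Module ℂ V] [FiniteDimensional ℂ V] (ρ : Representation ℂ G V) {x : G}
    (hr : (orderOf x).Prime) (h0 : ρ.character x = 0) : orderOf x ∣ finrank ℂ V := by
  obtain ⟨μ, h2, h3⟩ := exists_char_eq_sum_roots ρ x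
  have : Fact (orderOf x).Prime := ⟨hr⟩
  obtain ⟨M, hM⟩ := H42.exists_isPModular hr
  let ζ : Fin (finrank ℂ V) → Cfsg.AlgInt := fun i =>
    ⟨μ i, IsIntegral.of_pow hr.pos (by rw [h2 i]; exact isIntegral_one)⟩
  have hsum : ∑ i, ζ i = 0 := by
    apply Subtype.ext
    push_cast
    show ∑ i, μ i = (0 : ℂ)
    rw [← h3, h0]
  have hmem : ∑ i, (ζ i - 1) ∈ M := Ideal.sum_mem _ fun i _ =>
    sub_one_mem_of_pow_prime_eq_one hM (Subtype.ext (by simpa [ζ] using h2 i))
  rw [Finset.sum_sub_distrib, hsum, zero_sub, Finset.sum_const, Finset.card_univ, Fintype.card_fin,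
    nsmul_one, neg_mem_iff] at hmem
  exact (H40.natCast_mem_iff hM).mp hmem

/-- An irreducible representation with commutative image is one-dimensional. -/
theorem finrank_eq_one_of_commute {G : Type*} [Group G] {V : Type*} [AddCommGroup V] [Module ℂ V]
    [FiniteDimensional ℂ V] (ρ : Representation ℂ G V) [ρ.IsIrreducible]
    (h : ∀ a b : G, ρ a * ρ b = ρ b * ρ a) : finrank ℂ V = 1 := by
  haveI := nontrivial_of_isIrreducible ρ
  obtain ⟨v, hv⟩ := exists_ne (0 : V)
  have hs : ∀ a : G, ∃ c : ℂ, ρ a = c • (LinearMap.id : V →ₗ[ℂ] V) := fun a =>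
    ⟨_, eq_smul_id_of_comm ρ (ρ a) fun b => h a b⟩
  let S : Subrepresentation ρ :=
    { toSubmodule := Submodule.span ℂ {v}
      apply_mem_toSubmodule := fun a w hw => by
        obtain ⟨c, hc⟩ := hs a
        rw [hc, LinearMap.smul_apply, LinearMap.id_apply]
        exact Submodule.smul_mem _ _ hw }
  rcases IsSimpleOrder.eq_bot_or_eq_top S with hS | hS
  · have h1 : Submodule.span ℂ {v} = (⊥ : Submodule ℂ V) :=
      congrArg Subrepresentation.toSubmodule hS
    rw [Submodule.span_singleton_eq_bot] at h1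
    exact absurd h1 hv
  · have h1 : Submodule.span ℂ {v} = (⊤ : Submodule ℂ V) :=
      congrArg Subrepresentation.toSubmodule hS
    rw [← finrank_top, ← h1, finrank_span_singleton hv]

/-- A group extension of solvable groups: a subgroup with solvable image modulo a solvable normal
subgroup is solvable. -/
theorem isSolvable_of_map_mk {G : Type*} [Group G] (R M : Subgroup G) [R.Normal]
    (hR : Group.IsSolvable R) (hM : Group.IsSolvable (M.map (QuotientGroup.mk' R))) :
    Group.IsSolvable M := by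
  let f : M →* M.map (QuotientGroup.mk' R) := (QuotientGroup.mk' R).subgroupMap M
  have hsub : Group.IsSolvable (R.subgroupOf M) :=
    Group.isSolvable_of_isSolvable_injective
      (f := (M.subtype.comp (R.subgroupOf M).subtype).codRestrict R fun z => z.2)
      (fun a b h => by
        apply Subtype.ext; apply Subtype.ext
        exact congrArg (fun z : R => (z : G)) h)
  haveI := hsub
  haveI := hM
  refine Group.isSolvable_of_ker_le_range (R.subgroupOf M).subtype f ?_
  intro z hz
  rw [Subgroup.range_subtype, Subgroup.mem_subgroupOf]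
  have h1 : QuotientGroup.mk' R (z : G) = 1 := congrArg Subtype.val hz
  exact (QuotientGroup.eq_one_iff _).mp h1

/-- Lagrange for relative indices. -/
theorem relIndex_mul_card' {G : Type*} [Group G] {H K : Subgroup G} (h : H ≤ K) :
    H.relIndex K * Nat.card H = Nat.card K := by
  rw [mul_comm, ← Nat.card_congr (Subgroup.subgroupOfEquivOfLe h).toEquiv]
  exact (H.subgroupOf K).card_mul_index

/-- Second isomorphism in index form: if `N ≤ H ≤ C N` with `N` normal then
`[H : C ∩ H] = [N : C ∩ N]`. -/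
theorem relIndex_eq_of_le_sup {G : Type*} [Group G] [Finite G] (C H N : Subgroup G) [N.Normal]
    (hNH : N ≤ H) (hH : H ≤ C ⊔ N) : C.relIndex H = C.relIndex N := by
  have hmap : H.map (QuotientGroup.mk' N) = (C ⊓ H).map (QuotientGroup.mk' N) := by
    refine le_antisymm ?_ (Subgroup.map_mono inf_le_right)
    rintro _ ⟨z, hz, rfl⟩
    obtain ⟨c, hc, m, hm, rfl⟩ := Subgroup.mem_sup_of_normal_right.mp (hH hz)
    refine ⟨c, ⟨hc, ?_⟩, ?_⟩
    · simpa using mul_mem hz (inv_mem (hNH hm))
    · simp [(QuotientGroup.eq_one_iff m).mpr hm]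
  have h1 := H19.card_eq_card_map_mul N H
  have h2 := H19.card_eq_card_map_mul N (C ⊓ H)
  rw [inf_eq_right.mpr hNH, hmap] at h1
  rw [inf_assoc, inf_eq_right.mpr hNH] at h2
  have h3 : C.relIndex H * Nat.card (C ⊓ H : Subgroup G) = Nat.card H := by
    rw [← Subgroup.inf_relIndex_right, relIndex_mul_card' inf_le_right]
  have h4 : C.relIndex N * Nat.card (C ⊓ N : Subgroup G) = Nat.card N := by
    rw [← Subgroup.inf_relIndex_right, relIndex_mul_card' inf_le_right]
  rw [h1, ← h4, h2] at h3
  refine Nat.eq_of_mul_eq_mul_right (Nat.mul_pos Nat.card_pos Nat.card_pos) (h3.trans ?_)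
  ring

/-- A nilpotent group generated by one element modulo its commutator is cyclic. -/
theorem zpowers_eq_top_of_sup_commutator {P : Type*} [Group P] [Finite P] {p : ℕ} [Fact p.Prime]
    (hP : IsPGroup p P) {g : P} (h : Subgroup.zpowers g ⊔ commutator P = ⊤) :
    Subgroup.zpowers g = ⊤ := by
  by_contra hco
  haveI := hP.isNilpotent
  obtain ⟨Mx, hMx, hle⟩ := (eq_top_or_exists_le_coatom (Subgroup.zpowers g)).resolve_left hco
  haveI := H19.coatom_normal_of_nilpotent hMx
  haveI : IsCyclic (P ⧸ Mx) := isCyclic_of_prime_card (p := p) (by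
    rw [← Subgroup.index_eq_card]; exact H19.index_coatom_of_isPGroup hP hMx)
  have hcom : commutator P ≤ Mx :=
    Subgroup.Normal.quotient_commutative_iff_commutator_le.mp inferInstance
  exact hMx.1 (top_le_iff.mp (h ▸ sup_le hle hcom))

/-- Trichotomy for the irreducible characters in the core case. -/
theorem core_irr_cases {G : Type u} [Group G] [Finite G] (N : Subgroup G) (hN : N ≠ ⊥)
    (hGN : commutator G = N) (hker : ∀ K : Subgroup G, K.Normal → K = ⊥ ∨ N ≤ K)
    (x : G) (hx : (orderOf x).Prime) (hncomm : ¬ ∀ g, g * x = x * g)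
    {p k : ℕ} (hp : p.Prime)
    (hclass : (Subgroup.centralizer ({x} : Set G)).index = p ^ k) (χ : Cfsg.IrrCharacter G) :
    (χ.1 1 = 1 ∧ ∀ n ∈ N, χ.1 n = 1) ∨
      (Cfsg.charDegree χ.1 ≠ 1 ∧ (p ∣ Cfsg.charDegree χ.1 ∨
        (χ.1 x = 0 ∧ orderOf x ∣ Cfsg.charDegree χ.1))) := by
  obtain ⟨n, ρ, hirr, hρ⟩ := χ.2
  haveI : ρ.IsIrreducible := hirr
  have hd : Cfsg.charDegree χ.1 = n := hρ ▸ charDegree_character ρ
  rcases hker (MonoidHom.ker ρ) (MonoidHom.normal_ker ρ) with h | h
  · right
    refine ⟨fun h1 => ?_, ?_⟩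
    · obtain ⟨f, hf⟩ := H26.exists_hom_of_isCharacter_one (H26.irr_isCharacter χ) (by
        rw [← hρ, ρ.char_one, Module.finrank_fin_fun, ← hd, h1, Nat.cast_one])
      refine hN (eq_bot_iff.mpr fun z hz => ?_)
      rw [← hGN] at hz
      have hz1 : f z = 1 := Abelianization.commutator_subset_ker f hz
      have hz2 : ρ.character z = (finrank ℂ (Fin n → ℂ) : ℂ) := by
        rw [hρ, ← hf z, hz1, Units.val_one, Module.finrank_fin_fun, ← hd, h1, Nat.cast_one]
      rw [← h]
      exact (char_eq_degree_iff ρ z).mp hz2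
    · by_cases hpn : p ∣ n
      · exact Or.inl (hd ▸ hpn)
      right
      have hinj : Function.Injective ρ := (MonoidHom.ker_eq_bot_iff ρ).mp h
      have hcop : Nat.Coprime (finrank ℂ (Fin n → ℂ))
          (Subgroup.centralizer ({x} : Set G)).index := by
        rw [hclass, Module.finrank_fin_fun]
        exact Nat.Coprime.pow_right _ ((Nat.Prime.coprime_iff_not_dvd hp).mpr hpn).symm
      rcases char_eq_zero_or_norm_eq_of_coprime ρ x hcop with h0 | h0
      · refine ⟨hρ ▸ h0, hd ▸ ?_⟩
        have := prime_dvd_degree_of_char_eq_zero ρ hx h0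
        rwa [Module.finrank_fin_fun] at this
      · exfalso
        refine hncomm fun g => hinj ?_
        rw [map_mul, map_mul, apply_eq_smul_id_of_norm_eq ρ x h0]
        simp [Module.End.mul_eq_comp]
  · left
    have h1 : finrank ℂ (Fin n → ℂ) = 1 := finrank_eq_one_of_commute ρ fun a b => by
      rw [← map_mul, ← map_mul]
      have hm : (a * b)⁻¹ * (b * a) ∈ MonoidHom.ker ρ := h (by
        rw [← hGN, commutator_def]
        have := Subgroup.commutator_mem_commutator (Subgroup.mem_top b⁻¹)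
          (Subgroup.mem_top a⁻¹)
        simpa [commutatorElement_def, mul_assoc] using this)
      rw [show b * a = (a * b) * ((a * b)⁻¹ * (b * a)) by group, map_mul ρ (a * b),
        MonoidHom.mem_ker.mp hm, mul_one]
    refine ⟨by rw [← hρ, ρ.char_one, h1, Nat.cast_one], fun z hz => ?_⟩
    rw [← hρ, (char_eq_degree_iff ρ z).mpr (MonoidHom.mem_ker.mp (h hz)), h1, Nat.cast_one]

/-- Core case, `orderOf x = p`. -/
theorem false_of_orderOf_eq {G : Type u} [Group G] [Finite G] (N : Subgroup G) [N.Normal]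
    (hGN : commutator G = N) (hcyc : IsCyclic (G ⧸ N)) (x : G)
    {p k : ℕ} [hpf : Fact p.Prime] (hrp : orderOf x = p) (hidx : N.index = p)
    (hchar : ∀ χ : Cfsg.IrrCharacter G, (χ.1 1 = 1 ∧ ∀ n ∈ N, χ.1 n = 1) ∨
      (Cfsg.charDegree χ.1 ≠ 1 ∧ (p ∣ Cfsg.charDegree χ.1 ∨
        (χ.1 x = 0 ∧ orderOf x ∣ Cfsg.charDegree χ.1))))
    (hncomm : ¬ ∀ g, g * x = x * g)
    (hclass : (Subgroup.centralizer ({x} : Set G)).index = p ^ k) : False := by
  have hp : p.Prime := hpf.out
  have hzx : Nat.card (Subgroup.zpowers x) = p := (Nat.card_zpowers x).trans hrp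
  have hdeg : ∀ χ : Cfsg.IrrCharacter G, Cfsg.charDegree χ.1 ≠ 1 →
      p ∣ Cfsg.charDegree χ.1 := by
    intro χ hne
    rcases hchar χ with ⟨h1, -⟩ | ⟨-, h | ⟨-, h⟩⟩
    · exact absurd (by simp [Cfsg.charDegree, h1]) hne
    · exact h
    · exact hrp ▸ h
  obtain ⟨P⟩ := (inferInstance : Nonempty (Sylow p G))
  have hle : N.subgroupOf (P : Subgroup G) ≤ commutator (P : Subgroup G) := fun z hz =>
    sylow_inf_commutator_le hdeg P z (hGN.symm ▸ Subgroup.mem_subgroupOf.mp hz)
  haveI hPnil : Group.IsNilpotent (P : Subgroup G) := P.isPGroup'.isNilpotent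
  let φ : (P : Subgroup G) ⧸ N.subgroupOf (P : Subgroup G) →* G ⧸ N :=
    QuotientGroup.lift (N.subgroupOf (P : Subgroup G))
      ((QuotientGroup.mk' N).comp (P : Subgroup G).subtype)
      (fun z hz => (QuotientGroup.eq_one_iff (z : G)).mpr hz)
  have hφ : Function.Injective φ := by
    rw [injective_iff_map_eq_one]
    intro q
    refine QuotientGroup.induction_on q fun z hz => ?_
    exact (QuotientGroup.eq_one_iff z).mpr ((QuotientGroup.eq_one_iff (z : G)).mp hz)
  have hcycP : IsCyclic ((P : Subgroup G) ⧸ N.subgroupOf (P : Subgroup G)) :=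
    isCyclic_of_injective φ hφ
  have hPbot : commutator (P : Subgroup G) = ⊥ := by
    have hcl : commutator (P : Subgroup G) ≤ N.subgroupOf (P : Subgroup G) :=
      Subgroup.Normal.quotient_commutative_iff_commutator_le.mp inferInstance
    obtain ⟨q, hq⟩ := hcycP.exists_generator
    obtain ⟨g', rfl⟩ := QuotientGroup.mk'_surjective (N.subgroupOf (P : Subgroup G)) q
    have hsup : Subgroup.zpowers g' ⊔ commutator (P : Subgroup G) = ⊤ := by
      rw [eq_top_iff]
      intro z _
      obtain ⟨m, hm⟩ := Subgroup.mem_zpowers_iff.mp (hq (QuotientGroup.mk' _ z))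
      rw [← map_zpow, QuotientGroup.mk'_eq_mk'] at hm
      obtain ⟨c, hc, hcz⟩ := hm
      rw [← hcz]
      exact mul_mem (Subgroup.mem_sup_left (Subgroup.zpow_mem _ (Subgroup.mem_zpowers g') m))
        (Subgroup.mem_sup_right (hle hc))
    have htop := zpowers_eq_top_of_sup_commutator P.isPGroup' hsup
    haveI : IsCyclic (P : Subgroup G) :=
      ⟨⟨g', fun z => show z ∈ Subgroup.zpowers g' by rw [htop]; exact Subgroup.mem_top z⟩⟩
    rw [commutator_def, Subgroup.commutator_eq_bot_iff_le_centralizer]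
    intro z _ w _
    letI : CommGroup (P : Subgroup G) := IsCyclic.commGroup
    exact mul_comm w z
  have hdisjP : N.subgroupOf (P : Subgroup G) = ⊥ := le_bot_iff.mp (hPbot ▸ hle)
  have hpN : ¬ p ∣ Nat.card N := by
    intro hdvd
    obtain ⟨z, hz⟩ := exists_prime_orderOf_dvd_card' p hdvd
    obtain ⟨Q, hQ⟩ := (IsPGroup.of_card (n := 1)
      (by rw [pow_one, Nat.card_zpowers, Subgroup.orderOf_coe, hz]) :
        IsPGroup p (Subgroup.zpowers (z : G))).exists_le_sylow
    obtain ⟨g, hg⟩ := MulAction.exists_smul_eq G Q P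
    have hzP : g * (z : G) * g⁻¹ ∈ (P : Subgroup G) := by
      rw [← hg]
      exact ⟨z, hQ (Subgroup.mem_zpowers _), rfl⟩
    have : (⟨_, hzP⟩ : (P : Subgroup G)) ∈ N.subgroupOf (P : Subgroup G) :=
      Subgroup.mem_subgroupOf.mpr ((inferInstance : N.Normal).conj_mem _ z.2 g)
    rw [hdisjP, Subgroup.mem_bot, Subtype.ext_iff] at this
    have hz1 : (z : G) = 1 := by simpa using this
    rw [Subtype.ext hz1 (a2 := (1 : N)), orderOf_one] at hz
    exact hp.ne_one hz.symm
  have hCx : Subgroup.zpowers x ≤ Subgroup.centralizer ({x} : Set G) :=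
    Subgroup.zpowers_le.mpr (Subgroup.mem_centralizer_iff.mpr fun y hy => by
      rw [Set.mem_singleton_iff] at hy; rw [hy])
  have hdvd : p ^ k ∣ Nat.card N := by
    have hxi : (Subgroup.zpowers x).index = Nat.card N := by
      have := (Subgroup.zpowers x).card_mul_index
      rw [hzx, ← N.card_mul_index, hidx, mul_comm] at this
      exact Nat.eq_of_mul_eq_mul_right hp.pos this
    rw [← hxi, ← hclass]
    exact Subgroup.index_dvd_of_le hCx
  have hk : k = 0 := by
    by_contra hk
    exact hpN ((dvd_pow_self p hk).trans hdvd)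
  rw [hk, pow_zero, Subgroup.index_eq_one] at hclass
  exact hncomm fun g => (Subgroup.mem_centralizer_iff.mp
    (hclass ▸ Subgroup.mem_top g : g ∈ Subgroup.centralizer ({x} : Set G)) x rfl).symm

/-- Core case, `orderOf x = r ≠ p` and `r ∣ |N|`. -/
theorem false_of_dvd_card {G : Type u} [Group G] [Finite G] (hWO : WeakOrthAtOne G)
    (N : Subgroup G) [N.Normal] (hGN : commutator G = N) (x : G)
    {p k r : ℕ} (hp : p.Prime) [hrf : Fact r.Prime] (hrp : ¬ r = p) (hidx : N.index = r)
    (hrN : r ∣ Nat.card N)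
    (hchar : ∀ χ : Cfsg.IrrCharacter G, (χ.1 1 = 1 ∧ ∀ n ∈ N, χ.1 n = 1) ∨
      (Cfsg.charDegree χ.1 ≠ 1 ∧ (p ∣ Cfsg.charDegree χ.1 ∨
        (χ.1 x = 0 ∧ orderOf x ∣ Cfsg.charDegree χ.1))))
    (hclass : (Subgroup.centralizer ({x} : Set G)).index = p ^ k) : False := by
  classical
  have := Fintype.ofFinite G
  have hx : r.Prime := hrf.out
  obtain ⟨M, hM⟩ := H42.exists_isPModular hx
  obtain ⟨u, hu⟩ := exists_prime_orderOf_dvd_card' r hrN
  have hsum := hWO r M hM (u : G) (by rw [Subgroup.orderOf_coe, hu])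
  rw [finsum_mem_eq_finite_toFinset_sum _ (Set.toFinite _)] at hsum
  rw [← Finset.sum_filter_add_sum_filter_not _ (fun χ : Cfsg.IrrCharacter G => χ.1 1 = 1)]
    at hsum
  have hlin : ∀ χ : Cfsg.IrrCharacter G, χ.1 1 = 1 → χ ∈ Cfsg.principalBlock M G := by
    intro χ h1 g
    obtain ⟨f, hf⟩ := H26.exists_hom_of_isCharacter_one (H26.irr_isCharacter χ) h1
    have hgN : f g ^ r = 1 := by
      have hm : g ^ r ∈ N := by rw [← hidx]; exact Subgroup.pow_index_mem N g
      rw [← map_pow]
      exact Abelianization.commutator_subset_ker f (hGN.symm ▸ hm)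
    let ζ : Cfsg.AlgInt :=
      ⟨f g, IsIntegral.of_pow hx.pos (by
        rw [← Units.val_pow_eq_pow_val, hgN]; exact isIntegral_one)⟩
    have hζ : ζ - 1 ∈ M := sub_one_mem_of_pow_prime_eq_one hM
      (Subtype.ext (by simp [ζ, ← Units.val_pow_eq_pow_val, hgN]))
    refine ⟨-((Subgroup.centralizer ({g} : Set G)).index : Cfsg.AlgInt) * (ζ - 1), 1,
      Ideal.mul_mem_left _ _ hζ,
      fun h => hM.2.1.ne_top ((Ideal.eq_top_iff_one _).mpr h), ?_⟩
    simp only [Cfsg.centralChar, h1, ← hf g, div_one]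
    push_cast
    simp [ζ]
    ring
  have hL : ∀ χ : Cfsg.IrrCharacter G, χ.1 1 = 1 → χ.1 (u : G) = 1 := fun χ h1 => by
    rcases hchar χ with ⟨-, h⟩ | ⟨h, -⟩
    · exact h u u.2
    · exact absurd (by simp [Cfsg.charDegree, h1]) h
  set B := (Set.toFinite (Cfsg.principalBlock M G)).toFinset with hB
  have hnl : ∀ χ ∈ B.filter (fun χ : Cfsg.IrrCharacter G => ¬ χ.1 1 = 1), ∃ z : ℂ,
      IsIntegral ℤ z ∧ χ.1 1 * conj (χ.1 (u : G)) = (p : ℂ) * z := by
    intro χ hχ
    obtain ⟨hmem, hne⟩ := Finset.mem_filter.mp hχ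
    obtain ⟨n, ρ, hirr, hρ⟩ := χ.2
    rcases hchar χ with ⟨h, -⟩ | ⟨-, h | ⟨h0, -⟩⟩
    · exact absurd h hne
    · rw [← hρ, charDegree_character] at h
      obtain ⟨m, rfl⟩ := h
      refine ⟨(m : ℂ) * conj (χ.1 (u : G)),
        (isIntegral_algebraMap (R := ℤ) (x := (m : ℤ))).mul
          (hρ ▸ (char_inv ρ (u : G)) ▸ isIntegral_char ρ _), ?_⟩
      rw [show χ.1 1 = ((p * m : ℕ) : ℂ) by rw [← hρ, ρ.char_one, Module.finrank_fin_fun]]
      push_cast; ring
    · exfalso
      have h1 := ((Set.toFinite _).mem_toFinset.mp hmem) x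
      have h2 : Cfsg.centralChar (fun _ : G => (1 : ℂ)) x - Cfsg.centralChar χ.1 x =
          ((p ^ k : ℕ) : ℂ) := by
        simp [Cfsg.centralChar, h0, hclass]
      rw [h2] at h1
      exact hrp ((Nat.prime_dvd_prime_iff_eq hx hp).mp
        (hx.dvd_of_dvd_pow (H40.dvd_of_memLocalIdeal_natCast hM h1)))
  choose z hz hzeq using hnl
  rw [Finset.sum_congr rfl (g := fun _ => (1 : ℂ)) (fun χ hχ => by
      have h1 := (Finset.mem_filter.mp hχ).2
      rw [h1, hL χ h1, map_one, mul_one]),
    Finset.sum_const, nsmul_one, ← Finset.sum_attach, Finset.sum_congr rfl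
      (fun χ _ => hzeq χ.1 χ.2), ← Finset.mul_sum] at hsum
  have hcard : (B.filter (fun χ : Cfsg.IrrCharacter G => χ.1 1 = 1)).card = r := by
    rw [← hidx, ← hGN, ← H26.card_linear_irr, Nat.card_eq_fintype_card, Fintype.card_subtype]
    congr 1
    ext χ
    simp only [hB, Finset.mem_filter, Set.Finite.mem_toFinset, Finset.mem_univ, true_and]
    exact ⟨fun h => h.2, fun h => ⟨hlin χ h, h⟩⟩
  rw [hcard] at hsum
  set Z := ∑ χ ∈ (B.filter (fun χ : Cfsg.IrrCharacter G => ¬ χ.1 1 = 1)).attach, z χ.1 χ.2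
  have hint : IsIntegral ℤ ((r : ℂ) / (p : ℂ)) := by
    have h1 : (r : ℂ) / (p : ℂ) = -Z := by
      rw [div_eq_iff (Nat.cast_ne_zero.mpr hp.ne_zero)]
      linear_combination hsum
    rw [h1]
    exact (IsIntegral.sum _ fun χ _ => hz χ.1 χ.2).neg
  exact hrp ((Nat.prime_dvd_prime_iff_eq hp hx).mp (dvd_of_isIntegral_div hp.ne_zero hint)).symm

/-- Core case, `x` of order prime to `|N|`. -/
theorem false_of_coprime {G : Type u} [Group G] [Finite G]
    (hsol : ∀ R : Subgroup G, R.Normal → Group.IsSolvable R → R = ⊥)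
    (N : Subgroup G) [N.Normal] (x : G) (hxN : x ∉ N)
    {p k : ℕ} (hp : p.Prime) [Fact p.Prime] (hx : (orderOf x).Prime) (hrp : ¬ orderOf x = p)
    (hidx : N.index = orderOf x) (hrN : ¬ orderOf x ∣ Nat.card N)
    (hclass : (Subgroup.centralizer ({x} : Set G)).index = p ^ k) : False := by
  set r := orderOf x with hr
  have hzx : Nat.card (Subgroup.zpowers x) = r := Nat.card_zpowers x
  have hAN : Subgroup.zpowers x ≤ Subgroup.normalizer (N : Set G) := by
    rw [Subgroup.normalizer_eq_top]; exact le_top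
  have hcop : (Nat.card (Subgroup.zpowers x)).Coprime (Nat.card N) := by
    rw [hzx]; exact (Nat.Prime.coprime_iff_not_dvd hx).mpr hrN
  haveI : Group.IsSolvable (Subgroup.zpowers x) := Group.isSolvable_of_comm fun a b => mul_comm' a b
  obtain ⟨P, hPN, hxP, hPp, hPcard⟩ :=
    H20.exists_invariant_sylow_subgroup hAN hcop (Or.inl inferInstance) p
  set C := Subgroup.centralizer ({x} : Set G) with hC
  have hfac : (Nat.card G).factorization p = (Nat.card N).factorization p := by
    rw [← N.card_mul_index, hidx, Nat.factorization_mul Nat.card_pos.ne' hx.ne_zero,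
      Finsupp.add_apply, hx.factorization, Finsupp.single_eq_of_ne (Ne.symm hrp), add_zero]
  have hrel : C.index ≤ C.relIndex P := by
    have h2 : Nat.card G = Nat.card C * p ^ k := by rw [← hclass, Subgroup.card_mul_index]
    have h3 : C.relIndex P * Nat.card (C ⊓ P : Subgroup G) = Nat.card P := by
      rw [← Subgroup.inf_relIndex_right, relIndex_mul_card' inf_le_right]
    obtain ⟨j, hj⟩ := (hPp.to_le inf_le_right : IsPGroup p (C ⊓ P : Subgroup G)).exists_card_eq
    have hj' : p ^ (j + k) ∣ Nat.card G := by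
      rw [pow_add, h2]
      exact Nat.mul_dvd_mul_right (hj ▸ Subgroup.card_dvd_of_le inf_le_left) _
    have hjk : j + k ≤ (Nat.card G).factorization p :=
      (hp.pow_dvd_iff_le_factorization Nat.card_pos.ne').mp hj'
    rw [hj, hPcard, ← hfac] at h3
    have hle : p ^ (j + k) ≤ p ^ (Nat.card G).factorization p := Nat.pow_le_pow_right hp.pos hjk
    rw [← h3, pow_add, mul_comm] at hle
    rw [hclass]
    exact Nat.le_of_mul_le_mul_right hle (pow_pos hp.pos _)
  have hfact : ∀ g : G, ∃ u ∈ P, ∃ c ∈ C, g = u * c := by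
    intro g
    have hcard : (MulAction.orbit P ((1 : G) : G ⧸ C)).ncard = C.relIndex P := by
      rw [← MulAction.index_stabilizer, Subgroup.relIndex]
      congr 1
      ext u
      rw [MulAction.mem_stabilizer_iff, Subgroup.mem_subgroupOf]
      show ((↑((u : G) * 1) : G ⧸ C) = ↑(1 : G)) ↔ _
      rw [mul_one, QuotientGroup.eq, mul_one, inv_mem_iff]
    have huniv : MulAction.orbit P ((1 : G) : G ⧸ C) = Set.univ :=
      Set.eq_of_subset_of_ncard_le (Set.subset_univ _)
        (by rw [Set.ncard_univ, hcard, ← Subgroup.index_eq_card]; exact hrel) (Set.toFinite _)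
    obtain ⟨u, hu⟩ : (g : G ⧸ C) ∈ MulAction.orbit P ((1 : G) : G ⧸ C) := huniv ▸ Set.mem_univ _
    have hu' : (↑((u : G) * 1) : G ⧸ C) = ↑g := hu
    rw [mul_one, QuotientGroup.eq] at hu'
    exact ⟨u, u.2, _, hu', (mul_inv_cancel_left _ _).symm⟩
  have hU : Group.IsSolvable (P ⊔ Subgroup.zpowers x : Subgroup G) := by
    haveI : Group.IsNilpotent P := hPp.isNilpotent
    have hPn : (P.subgroupOf (P ⊔ Subgroup.zpowers x)).Normal :=
      Subgroup.normal_subgroupOf_of_le_normalizer (sup_le Subgroup.le_normalizer hxP)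
    haveI : Group.IsSolvable (P.subgroupOf (P ⊔ Subgroup.zpowers x)) :=
      Group.isSolvable_of_isSolvable_injective
        (f := (Subgroup.subgroupOfEquivOfLe (le_sup_left :
          P ≤ P ⊔ Subgroup.zpowers x)).toMonoidHom) (MulEquiv.injective _)
    haveI : Group.IsSolvable ((P ⊔ Subgroup.zpowers x : Subgroup G) ⧸
        P.subgroupOf (P ⊔ Subgroup.zpowers x)) := by
      refine Group.isSolvable_of_surjective (f := (QuotientGroup.mk' _).comp
        (Subgroup.inclusion (le_sup_right : Subgroup.zpowers x ≤ P ⊔ Subgroup.zpowers x))) ?_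
      intro q
      obtain ⟨⟨z, hz⟩, rfl⟩ := QuotientGroup.mk'_surjective _ q
      have hz' : z ∈ ((P : Set G) * (Subgroup.zpowers x : Set G)) := by
        rw [← Subgroup.coe_mul_of_right_le_normalizer_left P (Subgroup.zpowers x) hxP]
        exact hz
      obtain ⟨a, ha, b, hb, rfl⟩ := Set.mem_mul.mp hz'
      refine ⟨⟨b, hb⟩, ?_⟩
      show QuotientGroup.mk' _ _ = QuotientGroup.mk' _ _
      rw [QuotientGroup.mk'_eq_mk']
      refine ⟨⟨b⁻¹ * a * b, mul_mem (mul_mem (inv_mem (Subgroup.mem_sup_right hb))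
        (Subgroup.mem_sup_left ha)) (Subgroup.mem_sup_right hb)⟩, ?_, ?_⟩
      · rw [Subgroup.mem_subgroupOf]
        have := (Subgroup.mem_normalizer_iff.mp (inv_mem (hxP hb)) a).mp ha
        simpa using this
      · apply Subtype.ext
        simp [mul_assoc]
    exact Group.isSolvable_of_ker_le_range (P.subgroupOf (P ⊔ Subgroup.zpowers x)).subtype
      (QuotientGroup.mk' (P.subgroupOf (P ⊔ Subgroup.zpowers x))) (by simp)
  have hcl : Subgroup.normalClosure ({x} : Set G) ≤ P ⊔ Subgroup.zpowers x := by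
    rw [Subgroup.normalClosure, Subgroup.closure_le]
    intro z hz
    rw [Group.mem_conjugatesOfSet_iff] at hz
    obtain ⟨a, ha, hconj⟩ := hz
    rw [Set.mem_singleton_iff] at ha
    rw [ha] at hconj
    obtain ⟨g, rfl⟩ := isConj_iff.mp hconj
    obtain ⟨u, hu, c, hc, rfl⟩ := hfact g
    have this : u * c * x * (u * c)⁻¹ = u * x * u⁻¹ := by
      rw [mul_assoc u c x, show c * x = x * c from
        (Subgroup.mem_centralizer_iff.mp hc x rfl).symm]
      group
    show u * c * x * (u * c)⁻¹ ∈ P ⊔ Subgroup.zpowers x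
    rw [this]
    exact mul_mem (mul_mem (Subgroup.mem_sup_left hu)
      (Subgroup.mem_sup_right (Subgroup.mem_zpowers x))) (inv_mem (Subgroup.mem_sup_left hu))
  haveI := hU
  have h0 := hsol _ Subgroup.normalClosure_normal
    (Group.isSolvable_of_isSolvable_injective (Subgroup.inclusion_injective hcl))
  have : x ∈ (⊥ : Subgroup G) := h0 ▸ Subgroup.subset_normalClosure rfl
  exact hxN (Subgroup.mem_bot.mp this ▸ N.one_mem)

/-- The core case: `G = N⟨x⟩` with `N` the unique minimal normal subgroup, nonsolvable. -/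
theorem false_of_primePow_class {G : Type u} [Group G] [Finite G] (hWO : WeakOrthAtOne G)
    (hsol : ∀ R : Subgroup G, R.Normal → Group.IsSolvable R → R = ⊥)
    (N : Subgroup G) [N.Normal] (hN : N ≠ ⊥)
    (hmin : ∀ K : Subgroup G, K.Normal → K ≤ N → K = ⊥ ∨ K = N)
    (x : G) (hx : (orderOf x).Prime) (hxN : x ∉ N) (hgen : N ⊔ Subgroup.zpowers x = ⊤)
    {p k : ℕ} (hp : p.Prime)
    (hclass : (Subgroup.centralizer ({x} : Set G)).index = p ^ k) : False := by
  classical
  have := Fintype.ofFinite G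
  set r := orderOf x with hr
  haveI : Fact r.Prime := ⟨hx⟩
  haveI : Fact p.Prime := ⟨hp⟩
  have hNs : ¬ Group.IsSolvable N := fun h => hN (hsol N inferInstance h)
  have hzx : Nat.card (Subgroup.zpowers x) = r := Nat.card_zpowers x
  have hdisj : N ⊓ Subgroup.zpowers x = ⊥ := by
    rw [eq_bot_iff]
    intro z hz
    by_contra hz1
    have hd : Nat.card (N ⊓ Subgroup.zpowers x : Subgroup G) ∣ r :=
      hzx ▸ Subgroup.card_dvd_of_le inf_le_right
    rcases (Nat.dvd_prime hx).mp hd with h | h
    · rw [Subgroup.card_eq_one] at h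
      exact hz1 (h ▸ hz)
    · have heq : N ⊓ Subgroup.zpowers x = Subgroup.zpowers x :=
        Subgroup.eq_of_le_of_card_ge inf_le_right (by rw [h, hzx])
      exact hxN (heq.symm.le (Subgroup.mem_zpowers x)).1
  have hidx : N.index = r := by
    have h1 : Nat.card (N ⊔ Subgroup.zpowers x : Subgroup G) =
        Nat.card N * Nat.card (Subgroup.zpowers x) := by
      rw [H19.card_eq_card_map_mul N (N ⊔ Subgroup.zpowers x)]
      rw [show (N ⊔ Subgroup.zpowers x).map (QuotientGroup.mk' N) =
          (Subgroup.zpowers x).map (QuotientGroup.mk' N) by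
        rw [Subgroup.map_sup, QuotientGroup.map_mk'_self, bot_sup_eq]]
      rw [H19.card_map_mk_of_inf_eq_bot N _ ((inf_comm (Subgroup.zpowers x) N).trans hdisj),
        inf_eq_right.mpr (le_sup_left : N ≤ N ⊔ Subgroup.zpowers x), mul_comm]
    rw [hgen, Subgroup.card_top, hzx, ← N.card_mul_index] at h1
    exact Nat.eq_of_mul_eq_mul_left Nat.card_pos h1
  have hNperf : ⁅N, N⁆ = N := by
    rcases hmin ⁅N, N⁆ inferInstance (Subgroup.commutator_le_left N N) with h | h
    · exfalso
      refine hNs (Group.isSolvable_of_comm fun a b => Subtype.ext ?_)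
      have h2 := Subgroup.commutator_mem_commutator a.2 b.2
      rw [h, Subgroup.mem_bot, commutatorElement_eq_one_iff_mul_comm] at h2
      exact h2
    · exact h
  have hcyc : IsCyclic (G ⧸ N) := isCyclic_of_prime_card (p := r) (by
    rw [← Subgroup.index_eq_card, hidx])
  have hGN : commutator G = N := by
    refine le_antisymm (Subgroup.Normal.quotient_commutative_iff_commutator_le.mp inferInstance) ?_
    calc N = ⁅N, N⁆ := hNperf.symm
      _ ≤ ⁅(⊤ : Subgroup G), ⊤⁆ := Subgroup.commutator_mono le_top le_top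
      _ = commutator G := (commutator_def G).symm
  have hcen : N ⊓ Subgroup.centralizer (N : Set G) = ⊥ := by
    refine hsol _ inferInstance (Group.isSolvable_of_comm fun a b => Subtype.ext ?_)
    exact (Subgroup.mem_centralizer_iff.mp a.2.2 b b.2.1).symm
  have hCN : Subgroup.centralizer (N : Set G) = ⊥ := by
    refine hsol _ inferInstance (Group.isSolvable_of_comm fun a b => ?_)
    have : Function.Injective
        ((QuotientGroup.mk' N).comp (Subgroup.centralizer (N : Set G)).subtype) := by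
      rw [injective_iff_map_eq_one]
      intro z hz
      have h1 : (z : G) ∈ N := (QuotientGroup.eq_one_iff _).mp hz
      have h2 : (z : G) ∈ (⊥ : Subgroup G) := hcen ▸ ⟨h1, z.2⟩
      exact Subtype.ext h2
    apply this
    rw [map_mul, map_mul]
    letI : CommGroup (G ⧸ N) := IsCyclic.commGroup
    exact mul_comm _ _
  have hker : ∀ K : Subgroup G, K.Normal → K = ⊥ ∨ N ≤ K := by
    intro K hK
    rcases hmin (K ⊓ N) inferInstance inf_le_right with h | h
    · left
      rw [eq_bot_iff, ← hCN]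
      intro z hz
      rw [Subgroup.mem_centralizer_iff]
      intro n hn
      have hzn : z * n * z⁻¹ * n⁻¹ ∈ K := by
        rw [show z * n * z⁻¹ * n⁻¹ = z * (n * z⁻¹ * n⁻¹) by group]
        exact K.mul_mem hz (hK.conj_mem _ (K.inv_mem hz) n)
      have hzn' : z * n * z⁻¹ * n⁻¹ ∈ N :=
        N.mul_mem ((inferInstance : N.Normal).conj_mem n hn z) (N.inv_mem hn)
      have hm : z * n * z⁻¹ * n⁻¹ ∈ (⊥ : Subgroup G) := h ▸ ⟨hzn, hzn'⟩
      rw [Subgroup.mem_bot, mul_inv_eq_one, mul_inv_eq_iff_eq_mul] at hm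
      exact hm.symm
    · exact Or.inr (inf_eq_right.mp h)
  have hncomm : ¬ ∀ g, g * x = x * g := by
    intro h
    have hc : x ∈ Subgroup.centralizer (N : Set G) :=
      Subgroup.mem_centralizer_iff.mpr fun n _ => h n
    rw [hCN, Subgroup.mem_bot] at hc
    exact hxN (hc ▸ N.one_mem)
  have hchar := core_irr_cases N hN hGN hker x hx hncomm hp hclass
  by_cases hrp : r = p
  · exact false_of_orderOf_eq N hGN hcyc x hrp (hidx.trans hrp) hchar hncomm hclass
  by_cases hrN : r ∣ Nat.card N
  · exact false_of_dvd_card hWO N hGN x hp hrp hidx hrN hchar hclass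
  exact false_of_coprime hsol N x hxN hp hx hrp hidx hrN hclass

/-- Kazarin's theorem, modulo weak orthogonality. -/
theorem isSolvable_normalClosure_of_primePow_class
    (hWO : ∀ (G : Type u) [Group G] [Finite G], WeakOrthAtOne G)
    {G : Type u} [Group G] [Finite G] {p : ℕ} (hp : p.Prime) (x : G)
    (hx : ∃ k, (Subgroup.centralizer ({x} : Set G)).index = p ^ k) :
    Group.IsSolvable (Subgroup.normalClosure ({x} : Set G)) := by
  suffices key : ∀ (n : ℕ) (G : Type u) [Group G] [Finite G] (x : G), Nat.card G = n →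
      (∃ k, (Subgroup.centralizer ({x} : Set G)).index = p ^ k) →
      Group.IsSolvable (Subgroup.normalClosure ({x} : Set G)) from key _ G x rfl hx
  intro n
  induction n using Nat.strong_induction_on with
  | _ n ih =>
  intro G _ _ x hn ⟨k, hk⟩
  subst hn
  by_cases hR : ∃ R : Subgroup G, R.Normal ∧ Group.IsSolvable R ∧ R ≠ ⊥
  · obtain ⟨R, hRn, hRs, hR0⟩ := hR
    haveI := hRn
    have hlt : Nat.card (G ⧸ R) < Nat.card G := by
      rw [R.card_eq_card_quotient_mul_card_subgroup]
      exact (Nat.lt_mul_iff_one_lt_right Nat.card_pos).mpr (R.one_lt_card_iff_ne_bot.mpr hR0)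
    have hdvd : (Subgroup.centralizer ({QuotientGroup.mk' R x} : Set (G ⧸ R))).index ∣ p ^ k := by
      have hle : (Subgroup.centralizer ({x} : Set G)).map (QuotientGroup.mk' R) ≤
          Subgroup.centralizer ({QuotientGroup.mk' R x} : Set (G ⧸ R)) := by
        rintro _ ⟨c, hc, rfl⟩
        rw [Subgroup.mem_centralizer_iff]
        intro y hy
        rw [Set.mem_singleton_iff.mp hy, ← map_mul, ← map_mul,
          Subgroup.mem_centralizer_iff.mp hc x rfl]
      exact (Subgroup.index_dvd_of_le hle).trans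
        (hk ▸ Subgroup.index_map_dvd _ (QuotientGroup.mk'_surjective R))
    obtain ⟨j, -, hj⟩ := (Nat.dvd_prime_pow hp).mp hdvd
    have h1 := ih _ hlt (G ⧸ R) (QuotientGroup.mk' R x) rfl ⟨j, hj⟩
    refine isSolvable_of_map_mk R _ hRs ?_
    rwa [Subgroup.map_normalClosure _ _ (QuotientGroup.mk'_surjective R), Set.image_singleton]
  push Not at hR
  by_cases hx1 : x = 1
  · subst hx1
    have : Subgroup.normalClosure ({1} : Set G) = ⊥ :=
      le_bot_iff.mp (Subgroup.normalClosure_le_normal (by simp))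
    rw [this]
    exact Group.isSolvable_of_comm fun a b => Subsingleton.elim _ _
  exfalso
  -- pass to an element of prime order
  obtain ⟨r, hr, hrd⟩ := Nat.exists_prime_and_dvd (show orderOf x ≠ 1 by simpa using hx1)
  set y := x ^ (orderOf x / r) with hy
  have hyr : orderOf y = r := by
    rw [hy, orderOf_pow_orderOf_div (orderOf_pos x).ne' hrd]
  have hy1 : y ≠ 1 := fun h => hr.ne_one (by rw [← hyr, h, orderOf_one])
  have hCle : Subgroup.centralizer ({x} : Set G) ≤ Subgroup.centralizer ({y} : Set G) := by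
    intro c hc
    rw [Subgroup.mem_centralizer_iff]
    intro z hz
    rw [Set.mem_singleton_iff.mp hz, hy]
    exact ((show Commute x c from Subgroup.mem_centralizer_iff.mp hc x rfl).pow_left _).eq
  obtain ⟨a, -, ha⟩ := (Nat.dvd_prime_pow hp).mp (hk ▸ Subgroup.index_dvd_of_le hCle)
  have hM : Subgroup.normalClosure ({y} : Set G) ≠ ⊥ := fun h =>
    hy1 (Subgroup.mem_bot.mp (h ▸ Subgroup.subset_normalClosure rfl))
  obtain ⟨N, hNn, hNle, hN0, hmin⟩ : ∃ N : Subgroup G, N.Normal ∧
      N ≤ Subgroup.normalClosure ({y} : Set G) ∧ N ≠ ⊥ ∧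
      ∀ K : Subgroup G, K.Normal → K ≤ N → K = ⊥ ∨ K = N := by
    obtain ⟨N, ⟨h1, h2, h3⟩, h4⟩ := exists_minimal_of_wellFoundedLT
      (fun N : Subgroup G => N.Normal ∧ N ≤ Subgroup.normalClosure ({y} : Set G) ∧ N ≠ ⊥)
      ⟨_, Subgroup.normalClosure_normal, le_rfl, hM⟩
    refine ⟨N, h1, h2, h3, fun K hK hKN => ?_⟩
    by_cases hK0 : K = ⊥
    · exact Or.inl hK0
    · exact Or.inr (le_antisymm hKN (h4 ⟨hK, hKN.trans h2, hK0⟩ hKN))
  haveI := hNn
  have hNs : ¬ Group.IsSolvable N := fun h => hN0 (hR N hNn h)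
  have hyN : ¬ ∀ n ∈ N, n * y = y * n := by
    intro h
    apply hNs
    refine Group.isSolvable_of_comm fun a b => Subtype.ext ?_
    have hyC : y ∈ Subgroup.centralizer (N : Set G) := Subgroup.mem_centralizer_iff.mpr h
    exact (Subgroup.mem_centralizer_iff.mp
      (Subgroup.normalClosure_le_normal (by simpa using hyC) (hNle b.2)) a a.2)
  set H := N ⊔ Subgroup.zpowers y with hH
  by_cases hHtop : H = ⊤
  · by_cases hyin : y ∈ N
    · have hNtop : N = ⊤ := by
        rw [← hHtop, hH, sup_eq_left.mpr (Subgroup.zpowers_le.mpr hyin)]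
      haveI : Nontrivial G := ⟨⟨y, 1, hy1⟩⟩
      haveI : IsSimpleGroup G := ⟨fun K hK => by
        rcases hmin K hK (hNtop ▸ le_top) with h | h
        · exact Or.inl h
        · exact Or.inr (h.trans hNtop)⟩
      have hprime := prime_card_of_simple_of_primePow_class hp hy1 ha
      haveI : Fact (Nat.card G).Prime := ⟨hprime⟩
      haveI : IsCyclic G := isCyclic_of_prime_card rfl
      letI : CommGroup G := IsCyclic.commGroup
      exact hNs inferInstance
    · exact false_of_primePow_class (hWO G) (fun R hRn hRs => hR R hRn hRs) N hN0 hmin y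
        (hyr.symm ▸ hr) hyin hHtop hp ha
  · -- a proper subgroup
    have hyH : y ∈ H := Subgroup.mem_sup_right (Subgroup.mem_zpowers y)
    set C := Subgroup.centralizer ({y} : Set G)
    have hdvd : (Subgroup.centralizer ({(⟨y, hyH⟩ : H)} : Set H)).index ∣ p ^ a := by
      have heq : Subgroup.centralizer ({(⟨y, hyH⟩ : H)} : Set H) = C.subgroupOf H := by
        ext c
        simp [C, Subgroup.mem_subgroupOf, Subgroup.mem_centralizer_iff, Subtype.ext_iff]
        exact ⟨fun h => h y hyH rfl, fun h a _ hay => hay ▸ h⟩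
      rw [heq]
      show C.relIndex H ∣ p ^ a
      have hCH : H ≤ C ⊔ N := sup_le le_sup_right (Subgroup.zpowers_le.mpr (Subgroup.mem_sup_left
        (Subgroup.mem_centralizer_iff.mpr fun z hz => by rw [Set.mem_singleton_iff.mp hz])))
      rw [relIndex_eq_of_le_sup C H N le_sup_left hCH,
        ← relIndex_eq_of_le_sup C (C ⊔ N) N le_sup_right le_rfl]
      exact ha ▸ Subgroup.relIndex_dvd_index_of_le le_sup_left
    obtain ⟨j, -, hj⟩ := (Nat.dvd_prime_pow hp).mp hdvd
    have hlt : Nat.card H < Nat.card G := by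
      refine lt_of_le_of_ne (Nat.card_le_card_of_injective _ H.subtype_injective) fun h => hHtop ?_
      exact Subgroup.eq_top_of_card_eq _ h
    have hs := ih _ hlt H ⟨y, hyH⟩ rfl ⟨j, hj⟩
    set Mh := Subgroup.normalClosure ({(⟨y, hyH⟩ : H)} : Set H) with hMh
    haveI := hs
    set T : Subgroup N := (Mh.comap (Subgroup.inclusion (le_sup_left : N ≤ H)))
    haveI hTn : T.Normal := Subgroup.Normal.comap Subgroup.normalClosure_normal _
    haveI hTs : Group.IsSolvable T :=
      Group.isSolvable_of_isSolvable_injective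
        (f := ((Subgroup.inclusion (le_sup_left : N ≤ H)).comp T.subtype).codRestrict Mh
          fun z => z.2)
        (fun u v h => by
          apply Subtype.ext
          exact Subgroup.inclusion_injective (le_sup_left : N ≤ H)
            (congrArg (fun z : Mh => (z : H)) h))
    by_cases hT : T = ⊥
    · apply hyN
      intro m hm
      have hmN : m * y * m⁻¹ * y⁻¹ ∈ N := by
        rw [show m * y * m⁻¹ * y⁻¹ = m * (y * m⁻¹ * y⁻¹) by group]
        exact mul_mem hm (hNn.conj_mem _ (inv_mem hm) y)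
      have hmem : (⟨m * y * m⁻¹ * y⁻¹, hmN⟩ : N) ∈ T := by
        rw [Subgroup.mem_comap]
        have h1 : (⟨y, hyH⟩ : H) ∈ Mh := Subgroup.subset_normalClosure rfl
        have h2 := Subgroup.normalClosure_normal.conj_mem _ h1
          (⟨m, Subgroup.mem_sup_left hm⟩ : H)
        exact mul_mem h2 (inv_mem h1)
      rw [hT, Subgroup.mem_bot, Subtype.ext_iff] at hmem
      simp only [OneMemClass.coe_one, mul_inv_eq_iff_eq_mul, one_mul] at hmem
      exact hmem
    · -- a nontrivial solvable normal subgroup of `N` gives one of `G`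
      obtain ⟨A, q, hAn, -, hA0, hAc, -, -, -⟩ := H19.exists_normal_elementary_le T hTs hT
      haveI := hAc
      have hAF : A ≤ Cfsg.fittingSubgroup N := H19.le_fitting hAn (by
        letI : CommGroup A := { (inferInstance : Group A) with mul_comm := mul_comm' }
        infer_instance)
      haveI := H19.fitting_characteristic N
      haveI : ((Cfsg.fittingSubgroup N).map N.subtype).Normal := inferInstance
      haveI : Group.IsNilpotent (Cfsg.fittingSubgroup N) := H19.fitting_isNilpotent
      have hsolF : Group.IsSolvable ((Cfsg.fittingSubgroup N).map N.subtype) :=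
        Group.isSolvable_of_surjective (f := (N.subtype.subgroupMap _))
          (MonoidHom.subgroupMap_surjective _ _)
      have hF0 := hR _ inferInstance hsolF
      rw [Subgroup.map_eq_bot_iff_of_injective _ N.subtype_injective] at hF0
      exact hA0 (le_bot_iff.mp (hF0 ▸ hAF))

end Cfsg.Agent.H25
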