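import Mathlib
import Cfsg.Agent.H25.Kazarin
import Cfsg.Agent.H40.BlockSets
import Cfsg.Agent.H19.Fitting

/-!
# Kazarin's theorem and the Camina–Camina commutator theorem
-/

set_option autoImplicit false

open scoped ComplexConjugate

namespace Cfsg.Agent.H25

universe u

/-- Weak orthogonality at `1` holds in every finite group. -/
theorem weakOrthAtOne (G : Type u) [Group G] [Finite G] : WeakOrthAtOne G := by
  classical
  intro r _ M hM w hw
  have := Fintype.ofFinite G
  have := hM.2.1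
  have hB : Cfsg.IsPBlock M (Cfsg.principalBlock M G) := ⟨H26.oneIrr G, rfl⟩
  rw [finsum_mem_eq_finite_toFinset_sum _ (Set.toFinite _)]
  refine (Finset.sum_congr (by ext; simp) fun _ _ => rfl).trans
    (H40.sum_block_mul_conj_eq_zero hM hB (x := 1) ?_ hw)
  rw [orderOf_one]; exact hM.1.not_dvd_one

/-- Kazarin: an element whose class has prime power size generates a solvable normal subgroup. -/
theorem isSolvable_normalClosure {G : Type u} [Group G] [Finite G] {p : ℕ} (hp : p.Prime) (x : G)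
    (hx : ∃ k, (Subgroup.centralizer ({x} : Set G)).index = p ^ k) :
    Group.IsSolvable (Subgroup.normalClosure ({x} : Set G)) :=
  isSolvable_normalClosure_of_primePow_class (fun G _ _ => weakOrthAtOne G) hp x hx

/-- Camina–Camina: conjugates of an element with class of `p`-power size commute modulo `O_p`. -/
theorem commutator_conj_mem_pCore {G : Type u} [Group G] [Finite G] {p : ℕ} [hpf : Fact p.Prime]
    (x : G) (hx : ∃ a : ℕ, (Subgroup.centralizer ({x} : Set G)).index = p ^ a) (g h : G) :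
    (g * x * g⁻¹) * (h * x * h⁻¹) * (g * x * g⁻¹)⁻¹ * (h * x * h⁻¹)⁻¹ ∈ Cfsg.pCore p G := by
  haveI := H19.pCore_normal p G
  set π := QuotientGroup.mk' (Cfsg.pCore p G)
  have hπs : Function.Surjective π := QuotientGroup.mk'_surjective _
  obtain ⟨a, ha⟩ := hx
  set C := Subgroup.centralizer ({π x} : Set (G ⧸ Cfsg.pCore p G)) with hC
  obtain ⟨b, hb⟩ : ∃ b, C.index = p ^ b := by
    have hle : (Subgroup.centralizer ({x} : Set G)).map π ≤ C := by
      rintro _ ⟨c, hc, rfl⟩
      rw [hC, Subgroup.mem_centralizer_iff]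
      intro y hy
      rw [Set.mem_singleton_iff.mp hy, ← map_mul, ← map_mul,
        Subgroup.mem_centralizer_iff.mp hc x rfl]
    obtain ⟨b, -, hb⟩ := (Nat.dvd_prime_pow hpf.out).mp
      ((Subgroup.index_dvd_of_le hle).trans (ha ▸ Subgroup.index_map_dvd _ hπs))
    exact ⟨b, hb⟩
  have hFC : Cfsg.fittingSubgroup (G ⧸ Cfsg.pCore p G) ≤ C := by
    rw [H19.fitting_eq_iSup_pCore]
    refine iSup_le fun ⟨q, hq⟩ => ?_
    haveI : Fact q.Prime := ⟨hq⟩
    by_cases hqp : q = p
    · subst hqp
      exact (H19.pCore_quotient_pCore (G := G) q).le.trans bot_le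
    · obtain ⟨Q₀⟩ := (inferInstance : Nonempty (Sylow q C))
      have hQ₀ : IsPGroup q ((Q₀ : Subgroup C).map C.subtype) := Q₀.isPGroup'.map _
      have hnd : ¬ q ∣ ((Q₀ : Subgroup C).map C.subtype).index := by
        rw [Subgroup.index_map_subtype, hq.dvd_mul, not_or, hb]
        exact ⟨Q₀.not_dvd_index,
          fun h => hqp ((Nat.prime_dvd_prime_iff_eq hq hpf.out).mp (hq.dvd_of_dvd_pow h))⟩
      exact (H19.pCore_le_sylow (hQ₀.toSylow hnd)).trans (Subgroup.map_subtype_le _)
  have hsol := isSolvable_normalClosure hpf.out (π x) ⟨b, hb⟩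
  set M := Subgroup.normalClosure ({π x} : Set (G ⧸ Cfsg.pCore p G)) with hM
  haveI := hsol
  have hxM : π x ∈ M := Subgroup.subset_normalClosure rfl
  have hxF : π x ∈ Cfsg.fittingSubgroup (G ⧸ Cfsg.pCore p G) := by
    have h1 : (⟨π x, hxM⟩ : M) ∈ Cfsg.fittingSubgroup M := by
      refine H19.centralizer_fitting_le ?_
      rw [Subgroup.mem_centralizer_iff]
      intro f hf
      apply Subtype.ext
      have hf' := hFC (H19.map_fitting_le M ⟨f, hf, rfl⟩)
      exact (Subgroup.mem_centralizer_iff.mp hf' (π x) rfl).symm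
    exact H19.map_fitting_le M ⟨_, h1, rfl⟩
  haveI := H19.fitting_characteristic (G ⧸ Cfsg.pCore p G)
  have hFn : (Cfsg.fittingSubgroup (G ⧸ Cfsg.pCore p G)).Normal := inferInstance
  have hmem : ∀ c, π c * π x * (π c)⁻¹ ∈
      Cfsg.fittingSubgroup (G ⧸ Cfsg.pCore p G) := fun c => hFn.conj_mem _ hxF (π c)
  have hxC : π x ∈
      Subgroup.centralizer (Cfsg.fittingSubgroup (G ⧸ Cfsg.pCore p G) : Set (G ⧸ Cfsg.pCore p G)) :=
    Subgroup.mem_centralizer_iff.mpr fun f hf =>
      (Subgroup.mem_centralizer_iff.mp (hFC hf) (π x) rfl).symm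
  have hgC := (inferInstance : (Subgroup.centralizer
    (Cfsg.fittingSubgroup (G ⧸ Cfsg.pCore p G) : Set (G ⧸ Cfsg.pCore p G))).Normal).conj_mem
      _ hxC (π g)
  have hcomm := (Subgroup.mem_centralizer_iff.mp hgC _ (hmem h)).symm
  rw [← QuotientGroup.eq_one_iff]
  show π _ = 1
  simp only [map_mul, map_inv]
  rw [hcomm]
  group

end Cfsg.Agent.H25
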