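import Cfsg.Agent.H28.TwoRankOne
import Mathlib.GroupTheory.SpecificGroups.KleinFour

/-!
A non-cyclic simple group contains a four group, given the solvability of groups of odd order.
-/

set_option autoImplicit false

namespace Cfsg.Agent.H25

universe u

theorem exists_kleinFour_of_odd_solvable {G : Type u} [Group G] [Finite G] [IsSimpleGroup G]
    (hFT : Odd (Nat.card G) → Group.IsSolvable G) (hG : ¬ IsCyclic G) :
    ∃ E : Subgroup G, IsKleinFour E := by
  classical
  haveI := Fact.mk Nat.prime_two
  have hncomm : ¬ ∀ a b : G, a * b = b * a := fun h => hG (by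
    letI : CommGroup G := { (inferInstance : Group G) with mul_comm := h }
    exact IsSimpleGroup.isCyclic)
  have heven : 2 ∣ Nat.card G := by
    by_contra h
    haveI := hFT (Nat.odd_iff.2 (by omega))
    exact hncomm (IsSimpleGroup.comm_iff_isSolvable.2 inferInstance)
  obtain ⟨P⟩ : Nonempty (Sylow 2 G) := inferInstance
  have hP1 : (P : Subgroup G) ≠ ⊥ := P.ne_bot_of_dvd_card heven
  haveI : Nontrivial (P : Subgroup G) := Subgroup.nontrivial_iff_ne_bot _ |>.2 hP1
  haveI := P.isPGroup'.center_nontrivial
  have hc : IsPGroup 2 (Subgroup.center (P : Subgroup G)) := P.isPGroup'.to_subgroup _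
  obtain ⟨w, hw⟩ : ∃ w : Subgroup.center (P : Subgroup G), orderOf w = 2 := by
    refine exists_prime_orderOf_dvd_card' 2 ?_
    obtain ⟨n, hn, e⟩ := hc.exists_card_eq.imp fun n e =>
      (⟨by
        rintro rfl
        rw [pow_zero] at e
        exact absurd e (Finite.one_lt_card.ne'), e⟩ : n ≠ 0 ∧ Nat.card (Subgroup.center (P : Subgroup G)) = 2 ^ n)
    rw [e]; exact dvd_pow_self 2 hn
  set z : G := ((w : (P : Subgroup G)) : G) with hz
  have hzP : z ∈ (P : Subgroup G) := (w : (P : Subgroup G)).2
  have hzo : orderOf z = 2 := by rw [hz, Subgroup.orderOf_coe, Subgroup.orderOf_coe, hw]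
  by_cases huniq : ∀ x ∈ (P : Subgroup G), orderOf x = 2 → x = z
  · exfalso
    have hcore : Cfsg.pPrimeCore 2 G = ⊥ := by
      haveI := H19.pPrimeCore_normal 2 G
      refine (IsSimpleGroup.eq_bot_or_eq_top_of_normal _ inferInstance).resolve_right fun e => ?_
      have h := H19.pPrimeCore_coprime (G := G) 2
      rw [e, Subgroup.card_top] at h
      exact absurd (Nat.eq_one_of_dvd_coprimes h heven dvd_rfl) (by norm_num)
    have hzc : z ∈ Subgroup.center G := by
      refine Subgroup.mem_center_iff.2 fun g => ?_
      have h := H28.central_mod_core_of_unique_involution P hzo hzP huniq g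
      rw [hcore, Subgroup.mem_bot, mul_inv_eq_one, mul_inv_eq_iff_eq_mul] at h
      exact h.symm
    rcases IsSimpleGroup.eq_bot_or_eq_top_of_normal (Subgroup.center G) inferInstance with e | e
    · rw [e, Subgroup.mem_bot] at hzc
      rw [hzc, orderOf_one] at hzo
      omega
    · exact hncomm fun a b => (Subgroup.mem_center_iff.1 (e ▸ Subgroup.mem_top b) a)
  · push Not at huniq
    obtain ⟨x, hxP, hxo, hxz⟩ := huniq
    have hcomm : x * z = z * x := by
      have h := Subgroup.mem_center_iff.1 w.2 ⟨x, hxP⟩
      exact congrArg Subtype.val h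
    have hz2 : z * z = 1 := by rw [← pow_two, ← hzo]; exact pow_orderOf_eq_one z
    have hx2 : x * x = 1 := by rw [← pow_two, ← hxo]; exact pow_orderOf_eq_one x
    have hz1 : z ≠ 1 := fun e => by rw [e, orderOf_one] at hzo; omega
    have hx1 : x ≠ 1 := fun e => by rw [e, orderOf_one] at hxo; omega
    have e1 : z * (z * x) = x := by rw [← mul_assoc, hz2, one_mul]
    have e2 : x * (z * x) = z := by rw [← mul_assoc, hcomm, mul_assoc, hx2, mul_one]
    have e3 : z * x * z = x := by rw [mul_assoc, hcomm, e1]
    have e4 : z * x * x = z := by rw [mul_assoc, hx2, mul_one]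
    have e5 : z * x * (z * x) = 1 := by rw [← mul_assoc, e3, hx2]
    have hxi : x⁻¹ = x := inv_eq_of_mul_eq_one_right hx2
    have hzi : z⁻¹ = z := inv_eq_of_mul_eq_one_right hz2
    let E : Subgroup G :=
      { carrier := {1, z, x, z * x}
        one_mem' := Or.inl rfl
        mul_mem' := by
          intro a b ha hb
          rcases ha with rfl | rfl | rfl | rfl <;> rcases hb with rfl | rfl | rfl | rfl <;>
            simp [hz2, hx2, hcomm, e1, e2, e3, e4, e5]
        inv_mem' := by
          intro a ha
          rcases ha with rfl | rfl | rfl | rfl <;> simp [hxi, hzi, hcomm] }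
    refine ⟨E, ?_, ?_⟩
    · show Nat.card ({1, z, x, z * x} : Set G) = 4
      rw [Nat.card_coe_set_eq]
      have h1 : z * x ≠ 1 := fun e => hxz (by rw [← e1, e, mul_one])
      have h2 : z * x ≠ z := fun e => hx1 (mul_eq_left.1 e)
      have h3 : z * x ≠ x := fun e => hz1 (mul_eq_right.1 e)
      rw [Set.ncard_insert_of_notMem, Set.ncard_insert_of_notMem, Set.ncard_pair h3.symm]
      · simp [Ne.symm hxz, Ne.symm h2]
      · simp [Ne.symm hz1, Ne.symm hx1, Ne.symm h1]
    · refine Nat.dvd_antisymm (Monoid.exponent_dvd_of_forall_pow_eq_one ?_) ?_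
      · rintro ⟨a, ha⟩
        apply Subtype.ext
        show a ^ 2 = 1
        rw [pow_two]
        rcases ha with rfl | rfl | rfl | rfl <;> first | exact one_mul 1 | assumption
      · have := Monoid.order_dvd_exponent (⟨z, Or.inr (Or.inl rfl)⟩ : E)
        rwa [← Subgroup.orderOf_coe, hzo] at this

end Cfsg.Agent.H25
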