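import Mathlib
import Cfsg.Agent.H27.Monomial

/-!
# Groups with an abelian normal subgroup and nilpotent quotient are monomial

The argument extends `H27.nilpotent_monomial`.
-/

set_option autoImplicit false

namespace Cfsg.Agent.H25

open H27 Module

universe u

/-- A finite group with abelian normal subgroup and nilpotent quotient is monomial. -/
theorem monomial_of_nilpotent_quotient : ∀ (n : ℕ) (G : Type u) [Group G] [Fintype G]
    (A₀ : Subgroup G) [A₀.Normal], (∀ a ∈ A₀, ∀ b ∈ A₀, a * b = b * a) →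
    Group.IsNilpotent (G ⧸ A₀) →
    Nat.card G ≤ n → ∀ (χ : G → ℂ), Cfsg.IsIrrCharacter G χ →
      ∃ (H : Subgroup G) (lam : H →* ℂˣ), χ = Cfsg.indFun H (fun h => (lam h : ℂ)) := by
  intro n
  induction n using Nat.strong_induction_on with
  | _ n ih =>
  intro G _ _ A₀ _ hA₀ hnil hn χ hχ
  classical
  obtain ⟨d, ρ, hρ, rfl⟩ := hχ
  by_cases hcomm : ∀ a b, ρ a * ρ b = ρ b * ρ a
  · obtain ⟨-, lam, hlam⟩ := exists_hom_of_commutative_image ρ hcomm
    refine ⟨⊤, lam.comp (⊤ : Subgroup G).subtype, ?_⟩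
    rw [funext hlam]
    exact (H39.indFun_top (fun g => (lam g : ℂ)) fun g h => by
      have := ρ.char_conj g h
      rwa [hlam, hlam] at this).symm
  -- the elements acting centrally
  let K : Subgroup G :=
    { carrier := {g | ∀ h, ρ g * ρ h = ρ h * ρ g}
      one_mem' := fun h => by simp
      mul_mem' := fun {a b} ha hb h => by
        rw [map_mul, mul_assoc, hb h, ← mul_assoc, ha h, mul_assoc]
      inv_mem' := fun {a} ha h => by
        calc ρ a⁻¹ * ρ h = ρ a⁻¹ * (ρ h * ρ a) * ρ a⁻¹ := by simp [mul_assoc, ← map_mul]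
          _ = ρ a⁻¹ * (ρ a * ρ h) * ρ a⁻¹ := by rw [ha h]
          _ = ρ h * ρ a⁻¹ := by simp [← mul_assoc, ← map_mul] }
  have hKn : K.Normal := ⟨fun a ha g h => by
    calc ρ (g * a * g⁻¹) * ρ h = ρ g * (ρ a * ρ (g⁻¹ * h * g)) * ρ g⁻¹ := by
          simp [← map_mul, mul_assoc]
      _ = ρ g * (ρ (g⁻¹ * h * g) * ρ a) * ρ g⁻¹ := by rw [ha]
      _ = ρ h * ρ (g * a * g⁻¹) := by simp [← map_mul, mul_assoc]⟩
  have hKtop : K ≠ ⊤ := fun e => hcomm fun a b => (e ▸ Subgroup.mem_top a : a ∈ K) b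
  obtain ⟨A, x, hAn, hA₀A, hxA, hxK, hA⟩ : ∃ (A : Subgroup G) (x : G), A.Normal ∧ A₀ ≤ A ∧ x ∈ A ∧
      x ∉ K ∧ ∀ a ∈ A, ∀ b ∈ A, ρ a * ρ b = ρ b * ρ a := by
    by_cases hAK : A₀ ≤ K
    swap
    · obtain ⟨x, hx, hxK⟩ := SetLike.not_le_iff_exists.1 hAK
      exact ⟨A₀, x, inferInstance, le_rfl, hx, hxK, fun a ha b hb => by
        rw [← map_mul, hA₀ a ha b hb, map_mul]⟩
    haveI : Group.IsNilpotent (G ⧸ K) := Group.nilpotent_of_surjective
      (QuotientGroup.map A₀ K (MonoidHom.id G) (fun a ha => hAK ha))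
      (QuotientGroup.map_surjective_of_surjective A₀ K (MonoidHom.id G)
        (fun q => QuotientGroup.mk'_surjective K q) _)
    haveI : Nontrivial (G ⧸ K) := QuotientGroup.nontrivial_iff.2 hKtop
    obtain ⟨z, hz, hz1⟩ := (Subgroup.bot_or_exists_ne_one _).resolve_left
      (Group.IsNilpotent.center_ne_bot (G := G ⧸ K))
    obtain ⟨x, rfl⟩ := QuotientGroup.mk'_surjective K z
    have hxK : x ∉ K := fun e => hz1 ((QuotientGroup.eq_one_iff x).2 e)
    let A : Subgroup G := (Subgroup.zpowers (QuotientGroup.mk' K x)).comap (QuotientGroup.mk' K)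
    haveI hzN : (Subgroup.zpowers (QuotientGroup.mk' K x)).Normal := ⟨fun a ha g => by
      obtain ⟨i, rfl⟩ := Subgroup.mem_zpowers_iff.1 ha
      rw [Subgroup.mem_center_iff.1 (zpow_mem hz i) g, mul_inv_cancel_right]
      exact ha⟩
    haveI : A.Normal := hzN.comap _
    have hAform : ∀ a ∈ A, ∃ (i : ℤ) (k : G), k ∈ K ∧ a = x ^ i * k := by
      intro a ha
      obtain ⟨i, hi⟩ := Subgroup.mem_zpowers_iff.1 (Subgroup.mem_comap.1 ha)
      refine ⟨i, (x ^ i)⁻¹ * a, ?_, by simp⟩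
      rw [← map_zpow] at hi
      exact QuotientGroup.eq.1 hi
    have hA : ∀ a ∈ A, ∀ b ∈ A, ρ a * ρ b = ρ b * ρ a := by
      intro a ha b hb
      obtain ⟨i, k, hk, rfl⟩ := hAform a ha
      obtain ⟨j, l, hl, rfl⟩ := hAform b hb
      have e : ρ (x ^ i) * ρ (x ^ j) = ρ (x ^ j) * ρ (x ^ i) := by
        rw [← map_mul, ← map_mul, ← zpow_add, ← zpow_add, add_comm]
      calc ρ (x ^ i * k) * ρ (x ^ j * l) = ρ (x ^ i) * (ρ k * ρ (x ^ j)) * ρ l := by
            simp [mul_assoc, map_mul]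
        _ = ρ (x ^ i) * ρ (x ^ j) * (ρ k * ρ l) := by rw [hk]; simp [mul_assoc]
        _ = ρ (x ^ j) * ρ (x ^ i) * (ρ l * ρ k) := by rw [e, hk]
        _ = ρ (x ^ j) * (ρ l * ρ (x ^ i)) * ρ k := by rw [hl (x ^ i)]; simp [mul_assoc]
        _ = ρ (x ^ j * l) * ρ (x ^ i * k) := by simp [mul_assoc, map_mul]
    exact ⟨A, x, inferInstance, fun a ha => Subgroup.mem_comap.2 (by
      rw [show QuotientGroup.mk' K a = 1 from (QuotientGroup.eq_one_iff a).2 (hAK ha)]
      exact one_mem _), Subgroup.mem_comap.2 (Subgroup.mem_zpowers _), hxK, hA⟩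
  haveI := hAn
  obtain ⟨μ, T, W, σ, hAT, -, hσ, hσρ, hμ, hchar, -⟩ := exists_indFun_of_commutative_image ρ A hA
  have hTtop : T ≠ ⊤ := by
    rintro rfl
    have hW0 : W ≠ ⊥ := Submodule.nontrivial_iff_ne_bot.1 ((H26.isIrreducible_iff_forall σ).1 hσ).1
    let U : Subrepresentation ρ :=
      { toSubmodule := W
        apply_mem_toSubmodule := fun g w hw => by
          have := hσρ ⟨g, trivial⟩ ⟨w, hw⟩
          exact this ▸ (σ ⟨g, trivial⟩ ⟨w, hw⟩).2 }
    have hU : W = ⊤ := by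
      rcases IsSimpleOrder.eq_bot_or_eq_top U with e | e
      · exact absurd (congrArg Subrepresentation.toSubmodule e) hW0
      · exact congrArg Subrepresentation.toSubmodule e
    refine hxK fun h => ?_
    have e : ρ x = (μ ⟨x, hxA⟩ : ℂ) • (1 : Module.End ℂ (Fin d → ℂ)) :=
      LinearMap.ext fun v => hμ ⟨x, hxA⟩ v (hU ▸ Submodule.mem_top)
    rw [e, smul_one_mul, mul_smul_one]
  have hcard : Nat.card T < n := lt_of_lt_of_le (lt_of_le_of_ne (Subgroup.card_le_card_group T)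
    fun e => hTtop (Subgroup.eq_top_of_card_eq T e)) hn
  haveI : (A₀.subgroupOf T).Normal := Subgroup.normal_subgroupOf
  haveI : Group.IsNilpotent (T ⧸ A₀.subgroupOf T) := by
    have hinj : Function.Injective (QuotientGroup.map (A₀.subgroupOf T) A₀ T.subtype le_rfl) := by
      rw [injective_iff_map_eq_one]
      intro q hq
      induction q using QuotientGroup.induction_on with
      | H z =>
        replace hq : ((z : G) : G ⧸ A₀) = 1 := hq
        rw [QuotientGroup.eq_one_iff] at hq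
        exact (QuotientGroup.eq_one_iff z).2 hq
    exact Group.nilpotent_of_mulEquiv (MonoidHom.ofInjective hinj).symm
  obtain ⟨H, lam, hlam⟩ := ih _ hcard T (A₀.subgroupOf T)
    (fun a ha b hb => Subtype.ext (hA₀ a ha b hb)) inferInstance le_rfl σ.character (H26.isIrrCharacter_char σ)
  refine ⟨H.map T.subtype, lam.comp
    (H.equivMapOfInjective T.subtype T.subtype_injective).symm.toMonoidHom, ?_⟩
  rw [hchar, hlam, H39.indFun_indFun]
  rfl

end Cfsg.Agent.H25
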