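import Mathlib
import Cfsg.Agent.H25.CharInd
import Cfsg.Agent.H25.IndRep
import Cfsg.Agent.H25.CharIntegral
import Cfsg.Agent.H26.CharOrtho
import Cfsg.Agent.H26.CharLinear
import Cfsg.Agent.H27.Exceptional
import Cfsg.Agent.H68.CharTools

/-!
# Differences of characters of the centralizer of an abelian TI-subgroup

Abstract setting for exceptional characters: `C = P × V`, `N` normalizes `C`, the elements of
`C` outside `V` form a TI-set with normalizer `N`, and `N/C` acts fixed-point-freely on `P`.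
-/

set_option autoImplicit false

open scoped ComplexConjugate

namespace Cfsg.Agent.H25

universe u

/-- The data of a self-centralizing-modulo-`V` abelian TI-subgroup. -/
structure TIData (G : Type u) [Group G] where
  /-- the abelian TI-subgroup -/
  P : Subgroup G
  /-- its centralizer -/
  C : Subgroup G
  /-- its normalizer -/
  N : Subgroup G
  hPC : P ≤ C
  hCN : C ≤ N
  central : ∀ x ∈ P, ∀ c ∈ C, x * c = c * x
  conjC : ∀ g ∈ N, ∀ c ∈ C, g * c * g⁻¹ ∈ C
  conjP : ∀ g ∈ N, ∀ x ∈ P, g * x * g⁻¹ ∈ P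
  /-- the projection of `C` to `P` -/
  π : C →* P
  π_coe : ∀ x : P, π ⟨x, hPC x.2⟩ = x
  π_equiv : ∀ g (hg : g ∈ N) (c : C),
    ((π ⟨g * (c : G) * g⁻¹, conjC g hg c c.2⟩ : P) : G) = g * ((π c : P) : G) * g⁻¹
  fpf : ∀ g ∈ N, ∀ x ∈ P, x ≠ 1 → g * x * g⁻¹ = x → g ∈ C
  ti : ∀ g : G, ∀ t : C, π t ≠ 1 → ∀ h : g * (t : G) * g⁻¹ ∈ C,
    π ⟨g * (t : G) * g⁻¹, h⟩ ≠ 1 → g ∈ N
  vclosed : ∀ g : G, ∀ t : C, π t = 1 → ∀ h : g * (t : G) * g⁻¹ ∈ C,
    π ⟨g * (t : G) * g⁻¹, h⟩ = 1

namespace TIData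

variable {G : Type u} [Group G] (D : TIData G)

/-- Conjugation of `C` by an element of `N`. -/
def conjHom (g : D.N) : D.C ≃* D.C where
  toFun c := ⟨(g : G) * c * (g : G)⁻¹, D.conjC g g.2 c c.2⟩
  invFun c := ⟨(g : G)⁻¹ * c * (g : G),
    by simpa using D.conjC _ (inv_mem g.2) c c.2⟩
  left_inv c := Subtype.ext (by simp [mul_assoc])
  right_inv c := Subtype.ext (by simp [mul_assoc])
  map_mul' a b := Subtype.ext (by simp [mul_assoc])

/-- Conjugation of `P` by an element of `N`. -/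
def conjP' (g : D.N) : D.P →* D.P where
  toFun x := ⟨(g : G) * x * (g : G)⁻¹, D.conjP g g.2 x x.2⟩
  map_one' := Subtype.ext (by simp)
  map_mul' a b := Subtype.ext (by simp [mul_assoc])

/-- The projection commutes with conjugation. -/
theorem π_conjHom (g : D.N) (c : D.C) : D.π (D.conjHom g c) = D.conjP' g (D.π c) :=
  Subtype.ext (D.π_equiv g g.2 c)

/-- The conjugate of a function on `C`. -/
def cj (g : D.N) (f : D.C → ℂ) : D.C → ℂ := fun c => f (D.conjHom g c)

/-- Twist of a function on `C` by a linear character of `P`. -/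
def tw (f : D.C → ℂ) (ν : D.P →* ℂˣ) : D.C → ℂ := fun c => (ν (D.π c) : ℂ) * f c

/-- `f` has central character `μ` on `P`. -/
def Over (f : D.C → ℂ) (μ : D.P →* ℂˣ) : Prop :=
  ∀ (x : D.P) (c : D.C), f (⟨x, D.hPC x.2⟩ * c) = (μ x : ℂ) * f c

/-- Conjugation keeps irreducibility. -/
theorem isIrr_cj [Finite G] (g : D.N) {f : D.C → ℂ} (hf : Cfsg.IsIrrCharacter D.C f) :
    Cfsg.IsIrrCharacter D.C (D.cj g f) :=
  haveI : Fintype D.C := Fintype.ofFinite _
  H68.isIrrCharacter_comp_aut (D.conjHom g) hf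

/-- Twisting keeps irreducibility. -/
theorem isIrr_tw [Finite G] {f : D.C → ℂ} (hf : Cfsg.IsIrrCharacter D.C f) (ν : D.P →* ℂˣ) :
    Cfsg.IsIrrCharacter D.C (D.tw f ν) :=
  haveI : Fintype D.C := Fintype.ofFinite _
  H68.isIrrCharacter_hom_mul (ν.comp D.π) hf

/-- Every irreducible character of `C` has a central character on `P`. -/
theorem exists_over [Finite G] {f : D.C → ℂ} (hf : Cfsg.IsIrrCharacter D.C f) :
    ∃ μ, D.Over f μ := by
  obtain ⟨n, ρ, hirr, rfl⟩ := hf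
  haveI := hirr
  let i : D.P →* D.C := Subgroup.inclusion D.hPC
  have hs : ∀ x : D.P, ρ (i x) =
      (LinearMap.trace ℂ (Fin n → ℂ) (ρ (i x)) / (Module.finrank ℂ (Fin n → ℂ) : ℂ)) •
        (LinearMap.id : (Fin n → ℂ) →ₗ[ℂ] (Fin n → ℂ)) := fun x => by
    refine eq_smul_id_of_comm ρ (ρ (i x)) fun c => ?_
    rw [← Module.End.mul_eq_comp, ← Module.End.mul_eq_comp, ← map_mul, ← map_mul]
    congr 1
    exact Subtype.ext (D.central x x.2 c c.2)
  haveI := nontrivial_of_isIrreducible ρ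
  obtain ⟨v, hv⟩ := exists_ne (0 : Fin n → ℂ)
  let a : D.P → ℂ := fun x =>
    LinearMap.trace ℂ (Fin n → ℂ) (ρ (i x)) / (Module.finrank ℂ (Fin n → ℂ) : ℂ)
  have hs' : ∀ x w, ρ (i x) w = a x • w := fun x w => by
    conv_lhs => rw [hs x]
    rfl
  have h1 : a 1 = 1 := by
    have := hs' 1 v
    rw [map_one, map_one, Module.End.one_apply] at this
    exact smul_left_injective ℂ hv (show a 1 • v = (1 : ℂ) • v by rw [← this, one_smul])
  have hmul : ∀ x y, a (x * y) = a x * a y := fun x y => by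
    have := hs' (x * y) v
    rw [map_mul, map_mul, Module.End.mul_apply, hs', hs', smul_smul] at this
    exact (smul_left_injective ℂ hv this).symm
  refine ⟨MonoidHom.toHomUnits ⟨⟨a, h1⟩, hmul⟩, fun x c => ?_⟩
  show LinearMap.trace ℂ _ (ρ (i x * c)) = a x * LinearMap.trace ℂ _ (ρ c)
  have he : ρ (i x * c) = a x • ρ c := LinearMap.ext fun w => by
    rw [map_mul, Module.End.mul_apply, hs']; rfl
  rw [he, map_smul, smul_eq_mul]

/-- The central character is unique. -/
theorem over_unique {f : D.C → ℂ} (h1 : f 1 ≠ 0) {μ μ' : D.P →* ℂˣ} (h : D.Over f μ)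
    (h' : D.Over f μ') : μ = μ' := by
  refine MonoidHom.ext fun x => Units.ext ?_
  exact mul_right_cancel₀ h1 ((h x 1).symm.trans (h' x 1))

/-- Central character of a conjugate. -/
theorem over_cj {f : D.C → ℂ} {μ : D.P →* ℂˣ} (g : D.N) (h : D.Over f μ) :
    D.Over (D.cj g f) (μ.comp (D.conjP' g)) := by
  intro x c
  show f (D.conjHom g (⟨x, D.hPC x.2⟩ * c)) = _
  rw [map_mul, show D.conjHom g (⟨x, D.hPC x.2⟩ : D.C) =
    ⟨(D.conjP' g x : G), D.hPC (D.conjP' g x).2⟩ from rfl]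
  exact h (D.conjP' g x) (D.conjHom g c)

/-- Central character of a twist. -/
theorem over_tw {f : D.C → ℂ} {μ : D.P →* ℂˣ} (ν : D.P →* ℂˣ) (h : D.Over f μ) :
    D.Over (D.tw f ν) (ν * μ) := by
  intro x c
  simp only [tw, map_mul, h x c, D.π_coe, MonoidHom.mul_apply, Units.val_mul]
  ring

/-- Composition of conjugations. -/
theorem cj_cj (g h : D.N) (f : D.C → ℂ) : D.cj g (D.cj h f) = D.cj (h * g) f := by
  funext c
  exact congrArg f (Subtype.ext (by simp [conjHom, mul_assoc]))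

/-- Conjugation by the identity. -/
theorem cj_one (f : D.C → ℂ) : D.cj 1 f = f := by
  funext c
  exact congrArg f (Subtype.ext (by simp [conjHom]))

/-- Conjugation by an element of `C` fixes class functions. -/
theorem cj_of_mem {f : D.C → ℂ} (hf : Cfsg.IsClassFunction D.C f) (g : D.N) (hg : (g : G) ∈ D.C) :
    D.cj g f = f := by
  funext c
  refine Eq.trans ?_ (hf c ⟨g, hg⟩)
  exact congrArg f (Subtype.ext (by simp [conjHom]))

/-- Twisting commutes with conjugation. -/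
theorem cj_tw (g : D.N) (f : D.C → ℂ) (ν : D.P →* ℂˣ) :
    D.cj g (D.tw f ν) = D.tw (D.cj g f) (ν.comp (D.conjP' g)) := by
  funext c
  simp [cj, tw, π_conjHom]

/-- A nontrivial linear character of `P` is fixed only by `C`. -/
theorem mem_C_of_fixed [Finite G] {μ : D.P →* ℂˣ} (hμ : μ ≠ 1) (g : D.N)
    (h : μ.comp (D.conjP' g) = μ) : (g : G) ∈ D.C := by
  by_contra hg
  apply hμ
  let c : D.P → D.P := fun x => D.conjP' g x * x⁻¹
  have hc : Function.Injective c := by
    intro x y hxy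
    have e : (g : G) * x * (g : G)⁻¹ * (x : G)⁻¹ = (g : G) * y * (g : G)⁻¹ * (y : G)⁻¹ :=
      congrArg Subtype.val hxy
    have hcomm : (y : G) * (x : G)⁻¹ = (x : G)⁻¹ * y := D.central y y.2 _ (D.hPC (inv_mem x.2))
    by_contra hne
    refine hg (D.fpf g g.2 ((x : G)⁻¹ * y) (mul_mem (inv_mem x.2) y.2) ?_ ?_)
    · intro h1
      exact hne (Subtype.ext (inv_mul_eq_one.mp h1))
    · have e1 : (g : G) * y * (g : G)⁻¹ = (g : G) * x * (g : G)⁻¹ * ((x : G)⁻¹ * y) := by
        rw [← mul_assoc, e, inv_mul_cancel_right]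
      calc (g : G) * ((x : G)⁻¹ * y) * (g : G)⁻¹
          = ((g : G) * x * (g : G)⁻¹)⁻¹ * ((g : G) * y * (g : G)⁻¹) := by group
        _ = (x : G)⁻¹ * y := by rw [e1]; group
  have hsur := Finite.injective_iff_surjective.mp hc
  refine MonoidHom.ext fun x => ?_
  obtain ⟨y, rfl⟩ := hsur x
  show μ (D.conjP' g y * y⁻¹) = 1
  rw [map_mul, show μ (D.conjP' g y) = μ y from DFunLike.congr_fun h y, map_inv, mul_inv_cancel]

/-- The orbit relation of `N` on functions on `C`. -/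
def Orb (s t : D.C → ℂ) : Prop := ∃ g : D.N, D.cj g s = t

theorem orb_refl (s : D.C → ℂ) : D.Orb s s := ⟨1, D.cj_one s⟩

theorem orb_symm {s t : D.C → ℂ} (h : D.Orb s t) : D.Orb t s := by
  obtain ⟨g, rfl⟩ := h
  exact ⟨g⁻¹, by rw [cj_cj, mul_inv_cancel, cj_one]⟩

theorem orb_trans {s t r : D.C → ℂ} (h : D.Orb s t) (h' : D.Orb t r) : D.Orb s r := by
  obtain ⟨g, rfl⟩ := h
  obtain ⟨k, rfl⟩ := h'
  exact ⟨g * k, by rw [cj_cj]⟩

/-- Orbits of nontrivial characters are regular `N/C`-orbits. -/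
theorem sum_indicator_cj [Finite G] [Fintype D.N] {s : D.C → ℂ}
    (hs : Cfsg.IsIrrCharacter D.C s) {μ : D.P →* ℂˣ} (hμ : D.Over s μ) (hμ1 : μ ≠ 1)
    (t : D.C → ℂ) [DecidablePred fun g : D.N => D.cj g s = t] [Decidable (D.Orb s t)] :
    (Finset.univ.filter fun g : D.N => D.cj g s = t).card =
      if D.Orb s t then Nat.card D.C else 0 := by
  classical
  have hcl : Cfsg.IsClassFunction D.C s := H26.irr_isClassFunction ⟨s, hs⟩
  have hs1 : s 1 ≠ 0 := H26.irr_one_ne_zero ⟨s, hs⟩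
  split_ifs with h
  · obtain ⟨g₀, rfl⟩ := h
    haveI : Fintype D.C := Fintype.ofFinite _
    rw [Nat.card_eq_fintype_card, ← Finset.card_univ (α := D.C)]
    refine (Finset.card_bij (fun (c : D.C) _ => (⟨c, D.hCN c.2⟩ : D.N) * g₀) ?_ ?_ ?_).symm
    · intro c _
      simp only [Finset.mem_filter, Finset.mem_univ, true_and]
      rw [← cj_cj, D.cj_of_mem hcl ⟨c, D.hCN c.2⟩ c.2]
    · intro a _ b _ hab
      exact Subtype.ext (congrArg (fun z : D.N => (z : G)) (mul_right_cancel hab) :)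
    · intro g hg
      simp only [Finset.mem_filter, Finset.mem_univ, true_and] at hg
      have hfix : D.cj (g * g₀⁻¹) s = s := by
        rw [← cj_cj, hg, cj_cj, mul_inv_cancel, cj_one]
      have hmem := D.mem_C_of_fixed hμ1 (g * g₀⁻¹)
        (D.over_unique hs1 (hfix ▸ D.over_cj _ hμ) hμ)
      exact ⟨⟨_, hmem⟩, Finset.mem_univ _, Subtype.ext (by simp)⟩
  · rw [Finset.card_eq_zero, Finset.filter_eq_empty_iff]
    exact fun g _ hg => h ⟨g, hg⟩

/-- `Ind (s - s ν)`. -/
noncomputable def diff [Fintype G] (s : D.C → ℂ) (ν : D.P →* ℂˣ) : G → ℂ :=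
  Cfsg.indFun D.C (s - D.tw s ν)

/-- `s - s ν` vanishes on `V`. -/
theorem sub_tw_eq_zero (s : D.C → ℂ) (ν : D.P →* ℂˣ) {c : D.C} (hc : D.π c = 1) :
    (s - D.tw s ν) c = 0 := by
  simp [tw, hc]

/-- Inner product of induced functions vanishing on `V`. -/
theorem classInner_indFun_indFun [Fintype G] [Fintype D.C] [Fintype D.N] (F F' : D.C → ℂ)
    (hF : ∀ c, D.π c = 1 → F c = 0) (hF' : ∀ c, D.π c = 1 → F' c = 0) :
    Cfsg.classInner (Cfsg.indFun D.C F) (Cfsg.indFun D.C F') =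
      (Nat.card D.C : ℂ)⁻¹ * ∑ g : D.N, Cfsg.classInner F (D.cj g F') := by
  classical
  rw [classInner_indFun_left _ _ _ (isClassFunction_indFun _ _)]
  simp only [Cfsg.classInner, ← Finset.mul_sum]
  congr 1
  rw [Finset.sum_comm, Finset.mul_sum]
  refine Finset.sum_congr rfl fun t _ => ?_
  by_cases ht : D.π t = 1
  · simp [hF t ht]
  rw [indFun_apply, map_mul, map_inv₀, Complex.conj_natCast, map_sum]
  have key : ∀ x : G, x ∉ D.N → Cfsg.extendByZero D.C F' (x⁻¹ * t * x) = 0 := by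
    intro x hx
    by_cases hm : x⁻¹ * t * x ∈ D.C
    · rw [extendByZero_of_mem _ _ hm]
      refine hF' _ (by_contra fun hπ => hx ?_)
      have h' : x⁻¹ * (t : G) * x⁻¹⁻¹ ∈ D.C := by rwa [inv_inv]
      have := D.ti x⁻¹ t ht h' (by simpa [inv_inv] using hπ)
      simpa using inv_mem this
    · exact extendByZero_of_notMem _ _ hm
  rw [← Finset.sum_filter_add_sum_filter_not Finset.univ (· ∈ D.N) (fun x : G =>
      conj (Cfsg.extendByZero D.C F' (x⁻¹ * t * x))),
    Finset.sum_eq_zero (s := Finset.univ.filter (¬ · ∈ D.N))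
      (fun x hx => by rw [key x (Finset.mem_filter.mp hx).2, map_zero]), add_zero,
    Finset.sum_subtype (p := (· ∈ D.N)) (F := inferInstance) _ (by simp), ← mul_assoc, ← Finset.mul_sum,
    mul_comm (F t), mul_assoc]
  congr 1
  congr 1
  refine Fintype.sum_equiv (Equiv.inv D.N) _ _ fun g => ?_
  have hm : (g : G)⁻¹ * t * g ∈ D.C := by simpa using D.conjC _ (inv_mem g.2) t t.2
  rw [extendByZero_of_mem _ _ hm]
  simp only [cj, Equiv.inv_apply]
  congr 2
  exact Subtype.ext (by simp [conjHom])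

end TIData

end Cfsg.Agent.H25
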