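import Mathlib
import Cfsg.Agent.H25.TIData

/-!
# Irreducible constituents with small support on the nontrivial characters of `C`
-/

set_option autoImplicit false

open scoped ComplexConjugate

namespace Cfsg.Agent.H25

universe u

namespace TIData

variable {G : Type u} [Group G] (D : TIData G)

/-- `s` is nontrivial on `P`. -/
def NT (s : D.C → ℂ) : Prop := ¬ D.Over s 1

/-- Restriction to `C`. -/
def res (Y : G → ℂ) : D.C → ℂ := fun c => Y c

/-- A character of `G` is good if its `P`-nontrivial part on `C` is one orbit of multiplicity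
one. -/
noncomputable def mult [Fintype D.C] (R s : D.C → ℂ) : ℕ := ⌊(Cfsg.classInner R s).re⌋₊

theorem mult_eq [Fintype D.C] {R s : D.C → ℂ} (hR : Cfsg.IsCharacter D.C R)
    (hs : Cfsg.IsIrrCharacter D.C s) : (D.mult R s : ℂ) = Cfsg.classInner R s := by
  obtain ⟨k, hk⟩ := H26.exists_nat_classInner_irr hR ⟨s, hs⟩
  simp only at hk
  simp [mult, hk]

theorem isCharacter_res [Finite G] {Y : G → ℂ} (hY : Cfsg.IsCharacter G Y) :
    Cfsg.IsCharacter D.C (D.res Y) :=
  H26.isCharacter_comp hY D.C.subtype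

theorem over_ne_one {s : D.C → ℂ} (hs : D.NT s) {μ : D.P →* ℂˣ} (h : D.Over s μ) : μ ≠ 1 :=
  fun h1 => hs (h1 ▸ h)

theorem nt_of_over {s : D.C → ℂ} (h1 : s 1 ≠ 0) {μ : D.P →* ℂˣ} (h : D.Over s μ) (hμ : μ ≠ 1) :
    D.NT s := fun h' => hμ (D.over_unique h1 h h')

theorem irr_ne_zero [Finite G] {s : D.C → ℂ} (hs : Cfsg.IsIrrCharacter D.C s) : s 1 ≠ 0 :=
  H26.irr_one_ne_zero ⟨s, hs⟩

theorem nt_cj [Finite G] {s : D.C → ℂ} (hs : Cfsg.IsIrrCharacter D.C s) (hn : D.NT s) (g : D.N) :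
    D.NT (D.cj g s) := by
  obtain ⟨μ, hμ⟩ := D.exists_over hs
  refine D.nt_of_over (D.irr_ne_zero (D.isIrr_cj g hs)) (D.over_cj g hμ) fun h => ?_
  refine D.over_ne_one hn hμ (MonoidHom.ext fun x => ?_)
  have hx : (g : G)⁻¹ * x * (g : G) ∈ D.P := by simpa using D.conjP _ (inv_mem g.2) x x.2
  have := DFunLike.congr_fun h ⟨_, hx⟩
  simpa [conjP', mul_assoc] using this

/-- Characters in one orbit have central characters in one orbit. -/
theorem over_of_orb [Finite G] {s t : D.C → ℂ} (hs : Cfsg.IsIrrCharacter D.C s) {μ ξ : D.P →* ℂˣ}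
    (hμ : D.Over s μ) (hξ : D.Over t ξ) (h : D.Orb s t) :
    ∃ g : D.N, μ.comp (D.conjP' g) = ξ := by
  obtain ⟨g, rfl⟩ := h
  exact ⟨g, D.over_unique (D.irr_ne_zero (D.isIrr_cj g hs)) (D.over_cj g hμ) hξ⟩

section Counting

variable [Fintype G] [Fintype D.C]

/-- Multiplicities are constant on orbits for restrictions of characters of `G`. -/
theorem classInner_res_cj {Y : G → ℂ} (hY : Cfsg.IsClassFunction G Y) (g : D.N) (s : D.C → ℂ) :
    Cfsg.classInner (D.res Y) (D.cj g s) = Cfsg.classInner (D.res Y) s := by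
  unfold Cfsg.classInner
  congr 1
  refine Fintype.sum_equiv (D.conjHom g).toEquiv _ _ fun c => ?_
  simp only [res, cj, MulEquiv.toEquiv_eq_coe, EquivLike.coe_coe]
  congr 1
  exact (hY c g).symm

theorem mult_orb {Y : G → ℂ} (hY : Cfsg.IsClassFunction G Y) {s t : D.C → ℂ} (h : D.Orb s t) :
    D.mult (D.res Y) t = D.mult (D.res Y) s := by
  obtain ⟨g, rfl⟩ := h
  simp [mult, D.classInner_res_cj hY g s]

open scoped Classical in
/-- The inner product of two differences. -/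
theorem classInner_diff {s t : D.C → ℂ} (hs : Cfsg.IsIrrCharacter D.C s) (hsn : D.NT s)
    (ht : Cfsg.IsIrrCharacter D.C t) {ν ν' : D.P →* ℂˣ} (hsν : D.NT (D.tw s ν)) :
    Cfsg.classInner (D.diff s ν) (D.diff t ν') =
      ((if D.Orb s t then 1 else 0) + (if D.Orb (D.tw s ν) (D.tw t ν') then 1 else 0)) -
        ((if D.Orb s (D.tw t ν') then 1 else 0) + (if D.Orb (D.tw s ν) t then 1 else 0)) := by
  haveI : Fintype D.N := Fintype.ofFinite _
  rw [diff, diff, D.classInner_indFun_indFun _ _ (fun c => D.sub_tw_eq_zero s ν)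
    (fun c => D.sub_tw_eq_zero t ν')]
  have hC : (Nat.card D.C : ℂ) ≠ 0 := Nat.cast_ne_zero.mpr Nat.card_pos.ne'
  have key : ∀ (a b : D.C → ℂ), Cfsg.IsIrrCharacter D.C a → D.NT a → Cfsg.IsIrrCharacter D.C b →
      ∑ g : D.N, Cfsg.classInner a (D.cj g b) =
        (Nat.card D.C : ℂ) * if D.Orb a b then 1 else 0 := by
    intro a b ha han hb
    have h1 : ∀ g : D.N, Cfsg.classInner a (D.cj g b) = if D.cj g⁻¹ a = b then 1 else 0 := by
      intro g
      have h2 := H26.classInner_irr (⟨a, ha⟩ : Cfsg.IrrCharacter D.C) ⟨_, D.isIrr_cj g hb⟩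
      rw [h2]
      refine if_congr ⟨fun h => ?_, fun h => Subtype.ext ?_⟩ rfl rfl
      · have h' : a = D.cj g b := congrArg Subtype.val h
        rw [h', cj_cj, mul_inv_cancel, cj_one]
      · show a = D.cj g b
        rw [← h, cj_cj, inv_mul_cancel, cj_one]
    rw [Finset.sum_congr rfl fun g _ => h1 g]
    rw [show (∑ g : D.N, if D.cj g⁻¹ a = b then (1 : ℂ) else 0) =
        ∑ g : D.N, if D.cj g a = b then (1 : ℂ) else 0 from
      Fintype.sum_equiv (Equiv.inv D.N) _ _ (fun g => rfl), Finset.sum_boole]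
    obtain ⟨μ, hμ⟩ := D.exists_over ha
    rw [D.sum_indicator_cj ha hμ (D.over_ne_one han hμ) b]
    split_ifs <;> simp
  have hexp : ∀ g : D.N, Cfsg.classInner (s - D.tw s ν) (D.cj g (t - D.tw t ν')) =
      (Cfsg.classInner s (D.cj g t) + Cfsg.classInner (D.tw s ν) (D.cj g (D.tw t ν'))) -
        (Cfsg.classInner s (D.cj g (D.tw t ν')) + Cfsg.classInner (D.tw s ν) (D.cj g t)) := by
    intro g
    rw [show D.cj g (t - D.tw t ν') = D.cj g t - D.cj g (D.tw t ν') from rfl,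
      H26.classInner_sub_left, H26.classInner_sub_right, H26.classInner_sub_right]
    ring
  rw [Finset.sum_congr rfl fun g _ => hexp g, Finset.sum_sub_distrib, Finset.sum_add_distrib,
    Finset.sum_add_distrib, key s t hs hsn ht,
    key (D.tw s ν) (D.tw t ν') (D.isIrr_tw hs ν) hsν (D.isIrr_tw ht ν'),
    key s (D.tw t ν') hs hsn (D.isIrr_tw ht ν'), key (D.tw s ν) t (D.isIrr_tw hs ν) hsν ht]
  field_simp

/-- A coefficient of a difference. -/
theorem classInner_diff_irr {Y : G → ℂ} (hY : Cfsg.IsCharacter G Y) {s : D.C → ℂ}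
    (hs : Cfsg.IsIrrCharacter D.C s) (ν : D.P →* ℂˣ) :
    Cfsg.classInner (D.diff s ν) Y =
      (D.mult (D.res Y) s : ℂ) - D.mult (D.res Y) (D.tw s ν) := by
  have hR := D.isCharacter_res hY
  rw [diff, classInner_indFun_left _ _ _ (H26.isClassFunction_of_isCharacter hY),
    H26.classInner_sub_left, H26.classInner_comm (fun h : D.C => Y h) s,
    H26.classInner_comm (fun h : D.C => Y h) (D.tw s ν)]
  show conj (Cfsg.classInner (D.res Y) s) - conj (Cfsg.classInner (D.res Y) (D.tw s ν)) = _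
  rw [← D.mult_eq hR hs, ← D.mult_eq hR (D.isIrr_tw hs ν), Complex.conj_natCast,
    Complex.conj_natCast]

/-- The difference is a difference of two irreducible characters of equal degree. -/
theorem exists_diff_eq {s : D.C → ℂ} (hs : Cfsg.IsIrrCharacter D.C s) (hsn : D.NT s)
    {ν : D.P →* ℂˣ} (hsν : D.NT (D.tw s ν)) (hne : ¬ D.Orb s (D.tw s ν)) :
    ∃ a b : Cfsg.IrrCharacter G, a ≠ b ∧ D.diff s ν = a.1 - b.1 ∧ a.1 1 = b.1 1 := by
  classical
  have hgen : Cfsg.IsGeneralizedCharacter G (D.diff s ν) :=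
    ⟨_, _, isCharacter_indFun _ (H26.isCharacter_of_irr hs),
      isCharacter_indFun _ (H26.isCharacter_of_irr (D.isIrr_tw hs ν)), indFun_sub _ _ _⟩
  have h0 : D.diff s ν 1 = 0 := by
    rw [diff, indFun_one, D.sub_tw_eq_zero s ν (map_one _), mul_zero]
  have h2 : Cfsg.classInner (D.diff s ν) (D.diff s ν) = 2 := by
    rw [D.classInner_diff hs hsn hs hsν, if_pos (D.orb_refl _), if_pos (D.orb_refl _), if_neg hne,
      if_neg fun h => hne (D.orb_symm h)]
    norm_num
  obtain ⟨a, b, hab, heq⟩ := H27.exists_sub_of_norm_two hgen h2 h0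
  refine ⟨a, b, hab, heq, ?_⟩
  have := congrFun heq 1
  rw [h0, Pi.sub_apply] at this
  exact sub_eq_zero.mp this.symm

open scoped Classical in
/-- Coefficients of a difference in terms of its two constituents. -/
theorem classInner_of_diff_eq {s : D.C → ℂ} {ν : D.P →* ℂˣ} {a b : Cfsg.IrrCharacter G}
    (h : D.diff s ν = a.1 - b.1) (Y : Cfsg.IrrCharacter G) :
    Cfsg.classInner (D.diff s ν) Y.1 = (if a = Y then 1 else 0) - (if b = Y then 1 else 0) := by
  rw [h, H26.classInner_sub_left, H26.classInner_irr, H26.classInner_irr]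

/-- A coefficient of a difference is at most one. -/
theorem mult_le_mult_add_one {s : D.C → ℂ} (hs : Cfsg.IsIrrCharacter D.C s) (hsn : D.NT s)
    {ν : D.P →* ℂˣ} (hsν : D.NT (D.tw s ν)) (hne : ¬ D.Orb s (D.tw s ν))
    (Y : Cfsg.IrrCharacter G) :
    D.mult (D.res Y.1) s ≤ D.mult (D.res Y.1) (D.tw s ν) + 1 := by
  classical
  obtain ⟨a, b, hab, heq, -⟩ := D.exists_diff_eq hs hsn hsν hne
  have h := D.classInner_diff_irr (H26.irr_isCharacter Y) hs ν
  rw [D.classInner_of_diff_eq heq] at h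
  split_ifs at h with h1 h2
  · exact absurd (h1.trans h2.symm) hab
  · have : (D.mult (D.res Y.1) s : ℂ) = ((D.mult (D.res Y.1) (D.tw s ν) + 1 : ℕ) : ℂ) := by
      push_cast; linear_combination -h
    exact (Nat.cast_inj.mp this).le
  · have : ((D.mult (D.res Y.1) s + 1 : ℕ) : ℂ) = (D.mult (D.res Y.1) (D.tw s ν) : ℂ) := by
      push_cast; linear_combination -h
    have := Nat.cast_inj.mp this
    omega
  · have : (D.mult (D.res Y.1) s : ℂ) = (D.mult (D.res Y.1) (D.tw s ν) : ℂ) := by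
      linear_combination -h
    have := Nat.cast_inj.mp this
    omega

/-- Two different irreducibles cannot both have coefficient one in a difference. -/
theorem eq_of_mult_eq_one {s : D.C → ℂ} (hs : Cfsg.IsIrrCharacter D.C s) (hsn : D.NT s)
    {ν : D.P →* ℂˣ} (hsν : D.NT (D.tw s ν)) (hne : ¬ D.Orb s (D.tw s ν))
    {Y Y' : Cfsg.IrrCharacter G}
    (h1 : D.mult (D.res Y.1) s = 1) (h0 : D.mult (D.res Y.1) (D.tw s ν) = 0)
    (h1' : D.mult (D.res Y'.1) s = 1) (h0' : D.mult (D.res Y'.1) (D.tw s ν) = 0) : Y = Y' := by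
  classical
  obtain ⟨a, b, hab, heq, -⟩ := D.exists_diff_eq hs hsn hsν hne
  have key : ∀ Z : Cfsg.IrrCharacter G, D.mult (D.res Z.1) s = 1 →
      D.mult (D.res Z.1) (D.tw s ν) = 0 → a = Z := by
    intro Z hz1 hz0
    have h := D.classInner_diff_irr (H26.irr_isCharacter Z) hs ν
    rw [D.classInner_of_diff_eq heq, hz1, hz0] at h
    by_contra hne'
    rw [if_neg hne'] at h
    split_ifs at h <;> norm_num at h
  exact (key Y h1 h0).symm.trans (key Y' h1' h0')

/-- Two orthogonal differences cannot both contain the same irreducible with coefficient one. -/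
theorem false_of_orthogonal {s t : D.C → ℂ} (hs : Cfsg.IsIrrCharacter D.C s) (hsn : D.NT s)
    {ν : D.P →* ℂˣ} (hsν : D.NT (D.tw s ν)) (hnes : ¬ D.Orb s (D.tw s ν))
    (ht : Cfsg.IsIrrCharacter D.C t) (htn : D.NT t)
    {ν' : D.P →* ℂˣ} (htν : D.NT (D.tw t ν')) (hnet : ¬ D.Orb t (D.tw t ν'))
    (h11 : ¬ D.Orb s t) (h22 : ¬ D.Orb (D.tw s ν) (D.tw t ν'))
    (h12 : ¬ D.Orb s (D.tw t ν')) (h21 : ¬ D.Orb (D.tw s ν) t)
    (Y : Cfsg.IrrCharacter G)
    (hs1 : D.mult (D.res Y.1) s = 1) (hs0 : D.mult (D.res Y.1) (D.tw s ν) = 0)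
    (ht1 : D.mult (D.res Y.1) t = 1) (ht0 : D.mult (D.res Y.1) (D.tw t ν') = 0) : False := by
  classical
  obtain ⟨a, b, hab, heq, -⟩ := D.exists_diff_eq hs hsn hsν hnes
  obtain ⟨a', b', hab', heq', -⟩ := D.exists_diff_eq ht htn htν hnet
  have ha : a = Y := by
    have h := D.classInner_diff_irr (H26.irr_isCharacter Y) hs ν
    rw [D.classInner_of_diff_eq heq, hs1, hs0] at h
    by_contra hne
    rw [if_neg hne] at h
    split_ifs at h <;> norm_num at h
  have ha' : a' = Y := by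
    have h := D.classInner_diff_irr (H26.irr_isCharacter Y) ht ν'
    rw [D.classInner_of_diff_eq heq', ht1, ht0] at h
    by_contra hne
    rw [if_neg hne] at h
    split_ifs at h <;> norm_num at h
  have h := D.classInner_diff hs hsn ht hsν (ν' := ν')
  rw [if_neg h11, if_neg h22, if_neg h12, if_neg h21, heq, heq', H26.classInner_sub_left,
    H26.classInner_sub_right, H26.classInner_sub_right, H26.classInner_irr, H26.classInner_irr,
    H26.classInner_irr, H26.classInner_irr, ha, ha', if_pos rfl,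
    if_neg (fun e : Y = b' => hab' (ha'.trans e)), if_neg (fun e : b = Y => hab (ha.trans e.symm))]
    at h
  split_ifs at h <;> norm_num at h

/-- The set of central characters occurring in `R`, apart from the trivial one. -/
def supp (R : D.C → ℂ) : Set (D.P →* ℂˣ) :=
  {μ | μ ≠ 1 ∧ ∃ s, Cfsg.IsIrrCharacter D.C s ∧ D.Over s μ ∧ D.mult R s ≠ 0}

/-- The twist of `s` lying over a prescribed central character. -/
theorem over_tw_div {s : D.C → ℂ} {μ : D.P →* ℂˣ} (h : D.Over s μ) (ξ : D.P →* ℂˣ) :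
    D.Over (D.tw s (ξ * μ⁻¹)) ξ := by
  have := D.over_tw (ξ * μ⁻¹) h
  rwa [show ξ * μ⁻¹ * μ = ξ from MonoidHom.ext fun x => by simp] at this

/-- If two orbits of central characters avoid the restriction of an irreducible character which
is nontrivial on `P`, then that restriction has a single orbit, with multiplicity one. -/
theorem good_of_two_free {Y : Cfsg.IrrCharacter G} {s : D.C → ℂ}
    (hs : Cfsg.IsIrrCharacter D.C s) (hsn : D.NT s) (hm : D.mult (D.res Y.1) s ≠ 0)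
    {μ₁ μ₂ : D.P →* ℂˣ} (h1 : μ₁ ≠ 1) (h2 : μ₂ ≠ 1)
    (hf1 : μ₁ ∉ D.supp (D.res Y.1)) (hf2 : μ₂ ∉ D.supp (D.res Y.1))
    (hdiff : ∀ g : D.N, μ₁.comp (D.conjP' g) ≠ μ₂) :
    D.mult (D.res Y.1) s = 1 ∧
      ∀ t, Cfsg.IsIrrCharacter D.C t → D.NT t → D.mult (D.res Y.1) t ≠ 0 → D.Orb s t := by
  have hYc := H26.irr_isClassFunction Y
  have build : ∀ t, Cfsg.IsIrrCharacter D.C t → D.NT t → D.mult (D.res Y.1) t ≠ 0 →
      ∀ ξ : D.P →* ℂˣ, ξ ≠ 1 → ξ ∉ D.supp (D.res Y.1) →
      ∃ ν, D.Over (D.tw t ν) ξ ∧ D.NT (D.tw t ν) ∧ D.mult (D.res Y.1) (D.tw t ν) = 0 ∧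
        ¬ D.Orb t (D.tw t ν) ∧ D.mult (D.res Y.1) t = 1 := by
    intro t ht htn htm ξ hξ hξf
    obtain ⟨μ, hμ⟩ := D.exists_over ht
    refine ⟨ξ * μ⁻¹, D.over_tw_div hμ ξ, ?_⟩
    have hn := D.nt_of_over (D.irr_ne_zero (D.isIrr_tw ht (ξ * μ⁻¹))) (D.over_tw_div hμ ξ) hξ
    have h0 : D.mult (D.res Y.1) (D.tw t (ξ * μ⁻¹)) = 0 := by
      by_contra hne
      exact hξf ⟨hξ, _, D.isIrr_tw ht _, D.over_tw_div hμ ξ, hne⟩
    have hno : ¬ D.Orb t (D.tw t (ξ * μ⁻¹)) := fun h => htm ((D.mult_orb hYc h).symm.trans h0)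
    refine ⟨hn, h0, hno, ?_⟩
    have := D.mult_le_mult_add_one ht htn hn hno Y
    omega
  obtain ⟨ν, hov, hνn, hν0, hνo, hs1⟩ := build s hs hsn hm μ₁ h1 hf1
  refine ⟨hs1, fun t ht htn htm => ?_⟩
  obtain ⟨ν', hov', hν'n, hν'0, hν'o, ht1⟩ := build t ht htn htm μ₂ h2 hf2
  by_contra hst
  refine D.false_of_orthogonal hs hsn hνn hνo ht htn hν'n hν'o hst ?_ ?_ ?_ Y hs1 hν0 ht1 hν'0
  · intro h
    obtain ⟨g, hg⟩ := D.over_of_orb (D.isIrr_tw hs ν) hov hov' h
    exact hdiff g hg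
  · exact fun h => hm ((D.mult_orb hYc h).symm.trans hν'0)
  · exact fun h => htm ((D.mult_orb hYc h).trans hν0)

end Counting

end TIData

end Cfsg.Agent.H25
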