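import Mathlib
import Cfsg.Agent.H25.TIExceptional
import Cfsg.Prelude.Def_Blocks

/-!
# The `P`-average, orbit sums and the norm identity for good characters
-/

set_option autoImplicit false

open scoped ComplexConjugate

namespace Cfsg.Agent.H25

universe u

/-- The degree of a character as a natural number. -/
theorem char_one_eq_charDegree {H : Type u} [Group H] [Finite H] {f : H → ℂ}
    (hf : Cfsg.IsCharacter H f) : f 1 = (Cfsg.charDegree f : ℂ) := by
  obtain ⟨n, hn⟩ := H26.exists_nat_char_one hf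
  simp [Cfsg.charDegree, hn]

/-- Character values are bounded by the degree. -/
theorem norm_le_charDegree {H : Type u} [Group H] [Finite H] {f : H → ℂ}
    (hf : Cfsg.IsCharacter H f) (x : H) : ‖f x‖ ≤ Cfsg.charDegree f := by
  have h1 := char_one_eq_charDegree hf
  obtain ⟨n, ρ, rfl⟩ := hf
  rw [ρ.char_one] at h1
  exact (norm_char_le ρ x).trans_eq (by exact_mod_cast h1)

namespace TIData

variable {G : Type u} [Group G] (D : TIData G)

/-- An element of `P` inside `C`. -/
def incl (x : D.P) : D.C := ⟨x, D.hPC x.2⟩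

theorem incl_mul (x y : D.P) : D.incl (x * y) = D.incl x * D.incl y := rfl

theorem incl_one : D.incl 1 = 1 := rfl

theorem incl_comm (x : D.P) (c : D.C) : D.incl x * c = c * D.incl x :=
  Subtype.ext (D.central x x.2 c c.2)

theorem over_iff {f : D.C → ℂ} {μ : D.P →* ℂˣ} :
    D.Over f μ ↔ ∀ (x : D.P) (c : D.C), f (D.incl x * c) = (μ x : ℂ) * f c := Iff.rfl

/-- The `P`-average. -/
noncomputable def avg [Fintype D.P] (f : D.C → ℂ) : D.C → ℂ :=
  fun c => (Nat.card D.P : ℂ)⁻¹ * ∑ x : D.P, f (D.incl x * c)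

/-- The part nontrivial on `P`. -/
noncomputable def nt [Fintype D.P] (f : D.C → ℂ) : D.C → ℂ := f - D.avg f

/-- The sum over the orbit. -/
noncomputable def orbSum [Fintype D.N] (s : D.C → ℂ) : D.C → ℂ :=
  fun c => (Nat.card D.C : ℂ)⁻¹ * ∑ g : D.N, D.cj g s c

/-- The index of `C` in `N`. -/
noncomputable def e : ℕ := Nat.card D.N / Nat.card D.C

/-- The nontrivial part of `res Y` is a single orbit. -/
def Good [Fintype D.P] [Fintype D.N] (Y : G → ℂ) (s : D.C → ℂ) : Prop :=
  Cfsg.IsIrrCharacter D.C s ∧ D.NT s ∧ D.nt (D.res Y) = D.orbSum s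

section e

variable [Finite G]

theorem e_mul_card : D.e * Nat.card D.C = Nat.card D.N :=
  Nat.div_mul_cancel (Subgroup.card_dvd_of_le D.hCN)

theorem one_le_e : 1 ≤ D.e :=
  (Nat.one_le_div_iff Nat.card_pos).mpr
    (Nat.le_of_dvd Nat.card_pos (Subgroup.card_dvd_of_le D.hCN))

theorem e_cast : (D.e : ℂ) = (Nat.card D.C : ℂ)⁻¹ * Nat.card D.N := by
  have hne : (Nat.card D.C : ℂ) ≠ 0 := Nat.cast_ne_zero.mpr Nat.card_pos.ne'
  rw [← D.e_mul_card, Nat.cast_mul, mul_comm (D.e : ℂ), inv_mul_cancel_left₀ hne]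

theorem eq_C_of_e_eq_one (h : D.e = 1) : D.N = D.C := by
  have := D.e_mul_card
  rw [h, one_mul] at this
  exact (SetLike.coe_injective (Set.eq_of_subset_of_ncard_le (fun x hx => D.hCN hx)
    (by rw [← Nat.card_coe_set_eq, ← Nat.card_coe_set_eq]; exact this.ge) (Set.toFinite _))).symm

/-- The linear characters of `P` are as many as its elements. -/
theorem card_homs : Nat.card (D.P →* ℂˣ) = Nat.card D.P := by
  let _ : CommGroup D.P :=
    { (inferInstance : Group D.P) with
      mul_comm := fun a b => Subtype.ext (D.central a a.2 b (D.hPC b.2)) }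
  exact CommGroup.card_monoidHom_of_hasEnoughRootsOfUnity D.P ℂ

theorem finite_homs : Finite (D.P →* ℂˣ) :=
  Nat.finite_of_card_ne_zero (by rw [D.card_homs]; exact Nat.card_pos.ne')

/-- The orbit of a linear character of `P`. -/
def orbP (μ : D.P →* ℂˣ) : Set (D.P →* ℂˣ) := Set.range fun g : D.N => μ.comp (D.conjP' g)

omit [Finite G] in
theorem comp_conjP'_mul (μ : D.P →* ℂˣ) (g h : D.N) :
    μ.comp (D.conjP' (g * h)) = (μ.comp (D.conjP' g)).comp (D.conjP' h) := by
  refine MonoidHom.ext fun x => ?_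
  simp only [MonoidHom.comp_apply]
  exact congrArg μ (Subtype.ext (by simp [conjP', mul_assoc]))

omit [Finite G] in
theorem comp_conjP'_one (μ : D.P →* ℂˣ) : μ.comp (D.conjP' 1) = μ := by
  refine MonoidHom.ext fun x => ?_
  exact congrArg μ (Subtype.ext (by simp [conjP']))

omit [Finite G] in
theorem mem_orbP_self (μ : D.P →* ℂˣ) : μ ∈ D.orbP μ := ⟨1, D.comp_conjP'_one μ⟩

omit [Finite G] in
theorem orbP_eq_of_mem {μ ξ : D.P →* ℂˣ} (h : ξ ∈ D.orbP μ) : D.orbP ξ = D.orbP μ := by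
  obtain ⟨g, rfl⟩ := h
  ext η
  constructor
  · rintro ⟨k, rfl⟩
    exact ⟨g * k, D.comp_conjP'_mul μ g k⟩
  · rintro ⟨k, rfl⟩
    refine ⟨g⁻¹ * k, ?_⟩
    dsimp only
    rw [← D.comp_conjP'_mul, mul_inv_cancel_left]

omit [Finite G] in
theorem one_notMem_orbP {μ : D.P →* ℂˣ} (hμ : μ ≠ 1) : (1 : D.P →* ℂˣ) ∉ D.orbP μ := by
  intro h
  have h1 : D.orbP 1 = D.orbP μ := D.orbP_eq_of_mem h
  obtain ⟨g, hg⟩ : μ ∈ D.orbP 1 := h1 ▸ D.mem_orbP_self μ
  exact hμ (hg ▸ MonoidHom.one_comp _)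

/-- A nontrivial linear character has exactly `[N : C]` conjugates. -/
theorem ncard_orbP {μ : D.P →* ℂˣ} (hμ : μ ≠ 1) : (D.orbP μ).ncard = D.e := by
  classical
  haveI : Fintype D.N := Fintype.ofFinite _
  haveI : Fintype D.C := Fintype.ofFinite _
  let F : D.N → (D.P →* ℂˣ) := fun g => μ.comp (D.conjP' g)
  have hfix : ∀ c : D.C, μ.comp (D.conjP' ⟨c, D.hCN c.2⟩) = μ := fun c =>
    MonoidHom.ext fun x => congrArg μ (Subtype.ext (by
      show (c : G) * x * (c : G)⁻¹ = x
      rw [← D.central x x.2 c c.2, mul_inv_cancel_right]))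
  have hfib : ∀ g₀ : D.N, (Finset.univ.filter fun g => F g = F g₀).card = Nat.card D.C := by
    intro g₀
    rw [Nat.card_eq_fintype_card, ← Finset.card_univ (α := D.C)]
    refine (Finset.card_bij (fun (c : D.C) _ => (⟨c, D.hCN c.2⟩ : D.N) * g₀) ?_ ?_ ?_).symm
    · intro c _
      simp only [Finset.mem_filter, Finset.mem_univ, true_and, F]
      rw [D.comp_conjP'_mul, hfix c]
    · intro a _ b _ hab
      exact Subtype.ext (congrArg (fun z : D.N => (z : G)) (mul_right_cancel hab) :)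
    · intro g hg
      simp only [Finset.mem_filter, Finset.mem_univ, true_and, F] at hg
      have hfx : μ.comp (D.conjP' (g * g₀⁻¹)) = μ := by
        rw [D.comp_conjP'_mul, hg, ← D.comp_conjP'_mul, mul_inv_cancel, D.comp_conjP'_one]
      exact ⟨⟨_, D.mem_C_of_fixed hμ _ hfx⟩, Finset.mem_univ _, Subtype.ext (by simp)⟩
  have h := Finset.card_eq_sum_card_image F Finset.univ
  rw [Finset.sum_congr rfl (g := fun _ => Nat.card D.C) (fun b hb => by
      obtain ⟨g₀, -, rfl⟩ := Finset.mem_image.mp hb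
      exact hfib g₀), Finset.sum_const, smul_eq_mul, Finset.card_univ,
    ← Nat.card_eq_fintype_card, ← D.e_mul_card] at h
  have hset : D.orbP μ = ↑(Finset.univ.image F) := by simp [orbP, F]
  rw [hset, Set.ncard_coe_finset]
  exact (Nat.eq_of_mul_eq_mul_right Nat.card_pos h).symm

/-- An invariant set of nontrivial linear characters has size divisible by `[N : C]`. -/
theorem e_dvd_ncard {S : Set (D.P →* ℂˣ)} (h1 : (1 : D.P →* ℂˣ) ∉ S)
    (hinv : ∀ μ ∈ S, D.orbP μ ⊆ S) : D.e ∣ S.ncard := by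
  classical
  haveI := D.finite_homs
  haveI : Fintype (D.P →* ℂˣ) := Fintype.ofFinite _
  rw [Set.ncard_eq_toFinset_card' S, Finset.card_eq_sum_card_image D.orbP S.toFinset]
  refine Finset.dvd_sum fun O hO => ?_
  obtain ⟨μ, hμ, rfl⟩ := Finset.mem_image.mp hO
  rw [Set.mem_toFinset] at hμ
  have hne : μ ≠ 1 := fun h => h1 (h ▸ hμ)
  have heq : (S.toFinset.filter fun η => D.orbP η = D.orbP μ) = (D.orbP μ).toFinset := by
    ext η
    simp only [Finset.mem_filter, Set.mem_toFinset]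
    exact ⟨fun h => h.2 ▸ D.mem_orbP_self η, fun h => ⟨hinv μ hμ h, D.orbP_eq_of_mem h⟩⟩
  rw [heq, ← Set.ncard_eq_toFinset_card', D.ncard_orbP hne]

theorem e_dvd_card_sub_one : D.e ∣ Nat.card D.P - 1 := by
  haveI := D.finite_homs
  have h := D.e_dvd_ncard (S := ({1}ᶜ : Set (D.P →* ℂˣ))) (by simp) (fun μ hμ ξ hξ => by
    simp only [Set.mem_compl_iff, Set.mem_singleton_iff] at hμ ⊢
    rintro rfl
    exact D.one_notMem_orbP hμ hξ)
  rwa [Set.ncard_compl, Set.ncard_singleton, D.card_homs] at h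

/-- A small set of linear characters misses some nontrivial one. -/
theorem exists_notMem {S : Set (D.P →* ℂˣ)} (h : S.ncard + 1 < Nat.card D.P) :
    ∃ μ, μ ≠ 1 ∧ μ ∉ S := by
  haveI := D.finite_homs
  by_contra hc
  push_neg at hc
  have hsub : ({1}ᶜ : Set (D.P →* ℂˣ)) ⊆ S := fun μ hμ => hc μ hμ
  have := Set.ncard_le_ncard hsub (Set.toFinite _)
  rw [Set.ncard_compl, Set.ncard_singleton, D.card_homs] at this
  omega

/-- Some nontrivial linear character is not conjugate to a given one. -/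
theorem exists_free (h : D.e + 1 < Nat.card D.P) {μ : D.P →* ℂˣ} (hμ : μ ≠ 1) :
    ∃ ξ, ξ ≠ 1 ∧ ∀ g : D.N, μ.comp (D.conjP' g) ≠ ξ := by
  obtain ⟨ξ, hξ, hn⟩ := D.exists_notMem (S := D.orbP μ) (by rw [D.ncard_orbP hμ]; exact h)
  exact ⟨ξ, hξ, fun g hg => hn ⟨g, hg⟩⟩

end e

section Averages

variable [Fintype D.P]

theorem avg_apply (f : D.C → ℂ) (c : D.C) :
    D.avg f c = (Nat.card D.P : ℂ)⁻¹ * ∑ x : D.P, f (D.incl x * c) := rfl

theorem avg_sum {ι : Type*} (t : Finset ι) (f : ι → D.C → ℂ) :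
    D.avg (∑ i ∈ t, f i) = ∑ i ∈ t, D.avg (f i) := by
  funext c
  simp only [avg_apply, Finset.sum_apply]
  rw [Finset.sum_comm, Finset.mul_sum]

theorem avg_smul (a : ℂ) (f : D.C → ℂ) : D.avg (a • f) = a • D.avg f := by
  funext c
  simp only [avg_apply, Pi.smul_apply, smul_eq_mul, ← Finset.mul_sum]
  ring

theorem avg_add (f f' : D.C → ℂ) : D.avg (f + f') = D.avg f + D.avg f' := by
  funext c
  simp only [avg_apply, Pi.add_apply, Finset.sum_add_distrib, mul_add]

theorem avg_over {f : D.C → ℂ} {μ : D.P →* ℂˣ} (h : D.Over f μ) [Decidable (μ = 1)] :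
    D.avg f = if μ = 1 then f else 0 := by
  classical
  funext c
  rw [avg_apply, Finset.sum_congr rfl fun x _ => D.over_iff.mp h x c, ← Finset.sum_mul]
  split_ifs with h1
  · subst h1
    simp
  · have h0 := sum_hom_units_eq_zero ((Units.coeHom ℂ).comp μ) (fun hh => h1
      (MonoidHom.ext fun x => Units.ext (DFunLike.congr_fun hh x)))
    simp only [MonoidHom.coe_comp, Units.coeHom_apply, Function.comp_apply] at h0
    simp [h0]

theorem over_avg (f : D.C → ℂ) : D.Over (D.avg f) 1 := by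
  refine D.over_iff.mpr fun y c => ?_
  simp only [avg_apply, MonoidHom.one_apply, Units.val_one, one_mul]
  congr 1
  refine Fintype.sum_equiv (Equiv.mulRight y) _ _ fun x => ?_
  simp [incl_mul, mul_assoc]

theorem avg_avg (f : D.C → ℂ) : D.avg (D.avg f) = D.avg f := by
  classical
  rw [D.avg_over (D.over_avg f), if_pos rfl]

/-- Averaging commutes with multiplication by `P`-invariant functions. -/
theorem avg_mul_inv {A : D.C → ℂ} (hA : D.Over A 1) (f : D.C → ℂ) :
    D.avg (A * f) = A * D.avg f := by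
  funext c
  simp only [avg_apply, Pi.mul_apply]
  have h : ∀ x, A (D.incl x * c) = A c := fun x => by simpa using D.over_iff.mp hA x c
  simp only [h, ← Finset.mul_sum]
  ring

theorem avg_conj (f : D.C → ℂ) : D.avg (fun c => conj (f c)) = fun c => conj (D.avg f c) := by
  funext c
  simp [avg_apply, map_sum]

theorem isClassFunction_avg {f : D.C → ℂ} (hf : Cfsg.IsClassFunction D.C f) :
    Cfsg.IsClassFunction D.C (D.avg f) := by
  intro c k
  simp only [avg_apply]
  congr 1
  refine Finset.sum_congr rfl fun x _ => ?_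
  rw [show D.incl x * (k * c * k⁻¹) = k * (D.incl x * c) * k⁻¹ by
    rw [← mul_assoc (D.incl x), ← mul_assoc (D.incl x), D.incl_comm x k, mul_assoc k]]
  exact hf _ k

theorem isClassFunction_nt {f : D.C → ℂ} (hf : Cfsg.IsClassFunction D.C f) :
    Cfsg.IsClassFunction D.C (D.nt f) := fun c k => by
  simp only [nt, Pi.sub_apply, hf c k, D.isClassFunction_avg hf c k]

theorem avg_nt (f : D.C → ℂ) : D.avg (D.nt f) = 0 := by
  rw [nt, sub_eq_add_neg, avg_add, ← neg_one_smul ℂ (D.avg f), avg_smul, avg_avg, neg_one_smul,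
    add_neg_cancel]

variable [Fintype D.C]

theorem classInner_avg_left (f f' : D.C → ℂ) :
    Cfsg.classInner (D.avg f) f' = Cfsg.classInner f (D.avg f') := by
  simp only [Cfsg.classInner, avg_apply, map_mul, map_inv₀, map_natCast, map_sum, Finset.sum_mul,
    Finset.mul_sum]
  rw [Finset.sum_comm]
  conv_rhs => rw [Finset.sum_comm]
  refine Fintype.sum_equiv (Equiv.inv D.P) _ _ fun x => ?_
  refine Fintype.sum_equiv (Equiv.mulLeft (D.incl x)) _ _ fun c => ?_
  simp only [Equiv.coe_mulLeft, Equiv.inv_apply]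
  rw [← mul_assoc (D.incl x⁻¹), ← incl_mul, inv_mul_cancel, incl_one, one_mul]
  ring

theorem classInner_nt_nt (f f' : D.C → ℂ) :
    Cfsg.classInner (D.nt f) (D.nt f') =
      Cfsg.classInner f f' - Cfsg.classInner (D.avg f) (D.avg f') := by
  simp only [nt, H26.classInner_sub_left, H26.classInner_sub_right]
  have h1 : Cfsg.classInner f (D.avg f') = Cfsg.classInner (D.avg f) (D.avg f') := by
    rw [D.classInner_avg_left f (D.avg f'), avg_avg]
  have h2 : Cfsg.classInner (D.avg f) f' = Cfsg.classInner (D.avg f) (D.avg f') := by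
    rw [D.classInner_avg_left, h1]
  rw [h1, h2]
  ring

variable [Finite G]

open scoped Classical in
theorem classInner_nt_irr (f : D.C → ℂ) {t : D.C → ℂ} (ht : Cfsg.IsIrrCharacter D.C t) :
    Cfsg.classInner (D.nt f) t = if D.NT t then Cfsg.classInner f t else 0 := by
  obtain ⟨μ, hμ⟩ := D.exists_over ht
  rw [nt, H26.classInner_sub_left, D.classInner_avg_left f t, D.avg_over hμ]
  split_ifs with h1 h2 h2
  · exact absurd (h1 ▸ hμ) h2
  · exact sub_self _
  · simp [Cfsg.classInner]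
  · exact absurd (D.nt_of_over (D.irr_ne_zero ht) hμ h1) h2

open scoped Classical in
/-- The nontrivial part expanded in irreducible characters. -/
theorem nt_eq_sum {R : D.C → ℂ} (hR : Cfsg.IsCharacter D.C R) :
    D.nt R = ∑ t : Cfsg.IrrCharacter D.C,
      (if D.NT t.1 then (D.mult R t.1 : ℂ) else 0) • t.1 := by
  rw [H26.class_function_expansion _ (D.isClassFunction_nt (H26.isClassFunction_of_isCharacter hR))]
  refine Finset.sum_congr rfl fun t _ => ?_
  rw [D.classInner_nt_irr R t.2, D.mult_eq hR t.2]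

open scoped Classical in
/-- The degree of the nontrivial part. -/
noncomputable def ntDeg (R : D.C → ℂ) : ℕ :=
  ∑ t : Cfsg.IrrCharacter D.C, if D.NT t.1 then D.mult R t.1 * Cfsg.charDegree t.1 else 0

theorem nt_one {R : D.C → ℂ} (hR : Cfsg.IsCharacter D.C R) : D.nt R 1 = (D.ntDeg R : ℂ) := by
  classical
  rw [D.nt_eq_sum hR, ntDeg, Nat.cast_sum, Finset.sum_apply]
  refine Finset.sum_congr rfl fun t _ => ?_
  split_ifs with h
  · simp [char_one_eq_charDegree (H26.irr_isCharacter t)]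
  · simp

theorem isCharacter_nt {R : D.C → ℂ} (hR : Cfsg.IsCharacter D.C R) :
    Cfsg.IsCharacter D.C (D.nt R) := by
  classical
  refine H26.isCharacter_of_nat_coeffs (D.isClassFunction_nt (H26.isClassFunction_of_isCharacter hR))
    fun t => ?_
  rw [D.classInner_nt_irr R t.2]
  split_ifs
  · exact ⟨_, (D.mult_eq hR t.2).symm⟩
  · exact ⟨0, by simp⟩

theorem isCharacter_avg {R : D.C → ℂ} (hR : Cfsg.IsCharacter D.C R) :
    Cfsg.IsCharacter D.C (D.avg R) := by
  classical
  refine H26.isCharacter_of_nat_coeffs (D.isClassFunction_avg (H26.isClassFunction_of_isCharacter hR))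
    fun t => ?_
  obtain ⟨μ, hμ⟩ := D.exists_over t.2
  rw [D.classInner_avg_left R, D.avg_over hμ]
  split_ifs
  · exact ⟨_, (D.mult_eq hR t.2).symm⟩
  · exact ⟨0, by simp [Cfsg.classInner]⟩

open scoped Classical in
theorem ncard_supp_le_card {R : D.C → ℂ} :
    (D.supp R).ncard ≤ (Finset.univ.filter fun t : Cfsg.IrrCharacter D.C =>
      D.NT t.1 ∧ D.mult R t.1 ≠ 0).card := by
  haveI := D.finite_homs
  choose ov hov using fun t : Cfsg.IrrCharacter D.C => D.exists_over t.2
  have hsub : D.supp R ⊆ ↑((Finset.univ.filter fun t : Cfsg.IrrCharacter D.C =>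
      D.NT t.1 ∧ D.mult R t.1 ≠ 0).image ov) := by
    rintro μ ⟨hμ, s, hs, hsμ, hm⟩
    refine Finset.mem_coe.mpr (Finset.mem_image.mpr ⟨⟨s, hs⟩, ?_, ?_⟩)
    · exact Finset.mem_filter.mpr ⟨Finset.mem_univ _, D.nt_of_over (D.irr_ne_zero hs) hsμ hμ, hm⟩
    · exact D.over_unique (D.irr_ne_zero hs) (hov ⟨s, hs⟩) hsμ
  refine (Set.ncard_le_ncard hsub (Set.toFinite _)).trans ?_
  rw [Set.ncard_coe_finset]
  exact Finset.card_image_le

omit [Fintype D.P] in
theorem one_le_mult_mul_deg {R : D.C → ℂ} {t : Cfsg.IrrCharacter D.C}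
    (hm : D.mult R t.1 ≠ 0) : 1 ≤ D.mult R t.1 * Cfsg.charDegree t.1 := by
  refine Nat.one_le_iff_ne_zero.mpr (mul_ne_zero hm fun h0 => ?_)
  exact D.irr_ne_zero t.2 (by rw [char_one_eq_charDegree (H26.irr_isCharacter t), h0,
    Nat.cast_zero])

open scoped Classical in
theorem card_le_ntDeg {R : D.C → ℂ} :
    (Finset.univ.filter fun t : Cfsg.IrrCharacter D.C => D.NT t.1 ∧ D.mult R t.1 ≠ 0).card
      ≤ D.ntDeg R := by
  rw [Finset.card_filter, ntDeg]
  refine Finset.sum_le_sum fun t _ => ?_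
  split_ifs with h h' h'
  · exact D.one_le_mult_mul_deg h.2
  · exact absurd h.1 h'
  · exact Nat.zero_le _
  · exact le_rfl

theorem ncard_supp_le {R : D.C → ℂ} : (D.supp R).ncard ≤ D.ntDeg R :=
  D.ncard_supp_le_card.trans D.card_le_ntDeg

variable [Fintype D.N]

theorem orbSum_apply (s : D.C → ℂ) (c : D.C) :
    D.orbSum s c = (Nat.card D.C : ℂ)⁻¹ * ∑ g : D.N, D.cj g s c := rfl

theorem isClassFunction_orbSum {s : D.C → ℂ} (hs : Cfsg.IsIrrCharacter D.C s) :
    Cfsg.IsClassFunction D.C (D.orbSum s) := fun c k => by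
  simp only [orbSum_apply]
  congr 1
  exact Finset.sum_congr rfl fun g _ => H26.irr_conj ⟨_, D.isIrr_cj g hs⟩ c k

open scoped Classical in
theorem classInner_orbSum_irr {s t : D.C → ℂ} (hs : Cfsg.IsIrrCharacter D.C s) (hsn : D.NT s)
    (ht : Cfsg.IsIrrCharacter D.C t) :
    Cfsg.classInner (D.orbSum s) t = if D.Orb s t then 1 else 0 := by
  obtain ⟨μ, hμ⟩ := D.exists_over hs
  have h1 : D.orbSum s = (Nat.card D.C : ℂ)⁻¹ • ∑ g : D.N, D.cj g s := by
    funext c
    simp [orbSum_apply, Finset.sum_apply]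
  rw [h1, H26.classInner_smul_left, H26.classInner_sum_left,
    Finset.sum_congr rfl fun g _ => show Cfsg.classInner (D.cj g s) t =
      if D.cj g s = t then (1 : ℂ) else 0 from
      (H26.classInner_irr (⟨_, D.isIrr_cj g hs⟩ : Cfsg.IrrCharacter D.C) ⟨t, ht⟩).trans
        (if_congr ⟨fun h => congrArg Subtype.val h, fun h => Subtype.ext h⟩ rfl rfl),
    Finset.sum_boole, D.sum_indicator_cj hs hμ (D.over_ne_one hsn hμ) t]
  split_ifs <;> simp

open scoped Classical in
theorem classInner_orbSum_orbSum {s t : D.C → ℂ} (hs : Cfsg.IsIrrCharacter D.C s) (hsn : D.NT s)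
    (ht : Cfsg.IsIrrCharacter D.C t) :
    Cfsg.classInner (D.orbSum s) (D.orbSum t) = if D.Orb s t then (D.e : ℂ) else 0 := by
  have h1 : D.orbSum t = (Nat.card D.C : ℂ)⁻¹ • ∑ g : D.N, D.cj g t := by
    funext c
    simp [orbSum_apply, Finset.sum_apply]
  rw [h1, H26.classInner_smul_right, H26.classInner_sum_right]
  have h2 : ∀ g : D.N, Cfsg.classInner (D.orbSum s) (D.cj g t) = if D.Orb s t then 1 else 0 := by
    intro g
    rw [D.classInner_orbSum_irr hs hsn (D.isIrr_cj g ht)]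
    exact if_congr ⟨fun h => D.orb_trans h (D.orb_symm ⟨g, rfl⟩), fun h => D.orb_trans h ⟨g, rfl⟩⟩
      rfl rfl
  rw [Finset.sum_congr rfl fun g _ => h2 g, Finset.sum_const, Finset.card_univ, nsmul_eq_mul,
    ← Nat.card_eq_fintype_card, e_cast, map_inv₀, map_natCast]
  split_ifs <;> simp

theorem avg_orbSum {s : D.C → ℂ} (hs : Cfsg.IsIrrCharacter D.C s) (hsn : D.NT s) :
    D.avg (D.orbSum s) = 0 := by
  classical
  have h1 : D.orbSum s = (Nat.card D.C : ℂ)⁻¹ • ∑ g : D.N, D.cj g s := by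
    funext c
    simp [orbSum_apply, Finset.sum_apply]
  rw [h1, avg_smul, avg_sum, Finset.sum_eq_zero, smul_zero]
  intro g _
  obtain ⟨μ, hμ⟩ := D.exists_over (D.isIrr_cj g hs)
  rw [D.avg_over hμ, if_neg (D.over_ne_one (D.nt_cj hs hsn g) hμ)]

theorem orbSum_one {s : D.C → ℂ} (hs : Cfsg.IsIrrCharacter D.C s) :
    D.orbSum s 1 = (D.e : ℂ) * (Cfsg.charDegree s : ℂ) := by
  rw [orbSum_apply, e_cast, ← char_one_eq_charDegree (H26.isCharacter_of_irr hs)]
  simp [cj, Nat.card_eq_fintype_card, mul_assoc]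

/-- A good character of `G` has one orbit in its nontrivial part, with multiplicity one. -/
theorem Good.mult {Y : G → ℂ} (hY : Cfsg.IsCharacter G Y) {s : D.C → ℂ} (h : D.Good Y s)
    {t : D.C → ℂ} (ht : Cfsg.IsIrrCharacter D.C t) (htn : D.NT t) [Decidable (D.Orb s t)] :
    D.mult (D.res Y) t = if D.Orb s t then 1 else 0 := by
  classical
  have h1 := congrArg (fun F => Cfsg.classInner F t) h.2.2
  rw [D.classInner_nt_irr _ ht, if_pos htn, ← D.mult_eq (D.isCharacter_res hY) ht,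
    D.classInner_orbSum_irr h.1 h.2.1 ht] at h1
  split_ifs at h1 ⊢ with h3 <;> exact_mod_cast h1

/-- Recognition of good characters by multiplicities. -/
theorem good_of_mult {Y : G → ℂ} (hY : Cfsg.IsCharacter G Y) {s : D.C → ℂ}
    (hs : Cfsg.IsIrrCharacter D.C s) (hsn : D.NT s) (hm : D.mult (D.res Y) s = 1)
    (h : ∀ t, Cfsg.IsIrrCharacter D.C t → D.NT t → D.mult (D.res Y) t ≠ 0 → D.Orb s t) :
    D.Good Y s := by
  classical
  haveI := Fintype.ofFinite G
  have hR := D.isCharacter_res hY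
  refine ⟨hs, hsn, H26.class_function_ext
    (D.isClassFunction_nt (H26.isClassFunction_of_isCharacter hR)) (D.isClassFunction_orbSum hs)
    fun t => ?_⟩
  rw [D.classInner_nt_irr _ t.2, D.classInner_orbSum_irr hs hsn t.2, ← D.mult_eq hR t.2]
  by_cases ho : D.Orb s t.1
  · obtain ⟨g, hg⟩ := ho
    rw [if_pos (hg ▸ D.nt_cj hs hsn g), if_pos ⟨g, hg⟩,
      D.mult_orb (H26.isClassFunction_of_isCharacter hY) ⟨g, hg⟩, hm, Nat.cast_one]
  · rw [if_neg ho]
    split_ifs with hn
    · have : D.mult (D.res Y) t.1 = 0 := not_not.mp fun hne => ho (h _ t.2 hn hne)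
      simp [this]
    · rfl

/-- A good irreducible is determined by its orbit. -/
theorem good_unique [Fintype G] (hq : D.e + 1 < Nat.card D.P) {Y Y' : Cfsg.IrrCharacter G}
    {s s' : D.C → ℂ} (h : D.Good Y.1 s) (h' : D.Good Y'.1 s') (ho : D.Orb s s') : Y = Y' := by
  classical
  obtain ⟨μ, hμ⟩ := D.exists_over h.1
  obtain ⟨ξ, hξ, hfree⟩ := D.exists_free hq (D.over_ne_one h.2.1 hμ)
  have hn := D.nt_of_over (D.irr_ne_zero (D.isIrr_tw h.1 (ξ * μ⁻¹))) (D.over_tw_div hμ ξ) hξ
  have hno : ¬ D.Orb s (D.tw s (ξ * μ⁻¹)) := fun hh => by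
    obtain ⟨g, hg⟩ := D.over_of_orb h.1 hμ (D.over_tw_div hμ ξ) hh
    exact hfree g hg
  have ht := D.isIrr_tw h.1 (ξ * μ⁻¹)
  refine D.eq_of_mult_eq_one h.1 h.2.1 hn hno ?_ ?_ ?_ ?_
  · rw [Good.mult D (H26.irr_isCharacter Y) h h.1 h.2.1, if_pos (D.orb_refl s)]
  · rw [Good.mult D (H26.irr_isCharacter Y) h ht hn, if_neg hno]
  · rw [Good.mult D (H26.irr_isCharacter Y') h' h.1 h.2.1, if_pos (D.orb_symm ho)]
  · rw [Good.mult D (H26.irr_isCharacter Y') h' ht hn, if_neg fun hh => hno (D.orb_trans ho hh)]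

omit [Fintype D.C] in
theorem nt_res_one : D.nt (D.res fun _ : G => (1 : ℂ)) = 0 := by
  classical
  have h : D.Over (D.res fun _ : G => (1 : ℂ)) 1 := fun x c => by simp [res]
  rw [nt, D.avg_over h, if_pos rfl, sub_self]

variable [Fintype G]

omit [Fintype D.N] [Fintype D.C] in
/-- The nontrivial part of a restriction through the irreducible constituents. -/
theorem nt_res_eq_sum {W : G → ℂ} (hW : Cfsg.IsCharacter G W) :
    D.nt (D.res W) = ∑ Y : Cfsg.IrrCharacter G, Cfsg.classInner W Y.1 • D.nt (D.res Y.1) := by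
  have h := H26.class_function_expansion W (H26.isClassFunction_of_isCharacter hW)
  have hres : D.res W = ∑ Y : Cfsg.IrrCharacter G, Cfsg.classInner W Y.1 • D.res Y.1 := by
    funext c
    simpa [res, Finset.sum_apply] using congrFun h c
  simp only [nt, smul_sub, Finset.sum_sub_distrib]
  rw [← hres]
  congr 1
  conv_lhs => rw [hres]
  simp only [avg_sum, avg_smul]

/-- The isometry identity for characters all of whose constituents are good. -/
theorem classInner_nt_res (hq : D.e + 1 < Nat.card D.P) {W W' : G → ℂ}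
    (hW : Cfsg.IsCharacter G W) (hW' : Cfsg.IsCharacter G W')
    (hgood : ∀ Y : Cfsg.IrrCharacter G, Y ≠ H26.oneIrr G →
      (Cfsg.classInner W Y.1 ≠ 0 ∨ Cfsg.classInner W' Y.1 ≠ 0) → ∃ s, D.Good Y.1 s) :
    Cfsg.classInner (D.nt (D.res W)) (D.nt (D.res W')) =
      (D.e : ℂ) * (Cfsg.classInner W W' -
        Cfsg.classInner W (H26.oneIrr G).1 * conj (Cfsg.classInner W' (H26.oneIrr G).1)) := by
  classical
  rw [D.nt_res_eq_sum hW, D.nt_res_eq_sum hW', H26.classInner_sum_left,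
    H26.classInner_eq_sum W W' (H26.isClassFunction_of_isCharacter hW),
    ← Finset.sum_erase_eq_sub (Finset.mem_univ (H26.oneIrr G)), Finset.mul_sum]
  have h1 : D.nt (D.res (H26.oneIrr G).1) = 0 := D.nt_res_one
  have key : ∀ Y Z : Cfsg.IrrCharacter G,
      conj (Cfsg.classInner W' Z.1) * (Cfsg.classInner W Y.1 *
        Cfsg.classInner (D.nt (D.res Y.1)) (D.nt (D.res Z.1))) =
      if Y = Z ∧ Y ≠ H26.oneIrr G then
        (D.e : ℂ) * (Cfsg.classInner W Y.1 * conj (Cfsg.classInner W' Y.1)) else 0 := by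
    intro Y Z
    by_cases hY : Y = H26.oneIrr G
    · subst hY; simp [h1, Cfsg.classInner]
    by_cases hZ : Z = H26.oneIrr G
    · subst hZ
      rw [if_neg fun h => hY h.1]
      simp [h1, Cfsg.classInner]
    by_cases ha : Cfsg.classInner W Y.1 = 0
    · simp [ha]
    by_cases hb : Cfsg.classInner W' Z.1 = 0
    · split_ifs with hh
      · rw [hh.1]; simp [hb]
      · simp [hb]
    obtain ⟨s, hs⟩ := hgood Y hY (Or.inl ha)
    by_cases hYZ : Y = Z
    · subst hYZ
      rw [if_pos ⟨rfl, hY⟩, hs.2.2, D.classInner_orbSum_orbSum hs.1 hs.2.1 hs.1,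
        if_pos (D.orb_refl s)]
      ring
    obtain ⟨t, ht⟩ := hgood Z hZ (Or.inr hb)
    rw [if_neg fun h => hYZ h.1, hs.2.2, ht.2.2, D.classInner_orbSum_orbSum hs.1 hs.2.1 ht.1,
      if_neg fun ho => hYZ (D.good_unique hq hs ht ho), mul_zero, mul_zero]
  have h3 : ∀ Y : Cfsg.IrrCharacter G,
      Cfsg.classInner (Cfsg.classInner W Y.1 • D.nt (D.res Y.1))
        (∑ Z : Cfsg.IrrCharacter G, Cfsg.classInner W' Z.1 • D.nt (D.res Z.1)) =
      if Y ≠ H26.oneIrr G then
        (D.e : ℂ) * (Cfsg.classInner W Y.1 * conj (Cfsg.classInner W' Y.1)) else 0 := by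
    intro Y
    simp only [H26.classInner_smul_left, H26.classInner_sum_right, H26.classInner_smul_right,
      Finset.mul_sum]
    rw [Finset.sum_congr rfl fun Z _ => key Y Z, Finset.sum_eq_single Y
      (fun Z _ hZ => if_neg fun h => hZ h.1.symm) (by simp)]
    simp
  rw [Finset.sum_congr rfl fun Y _ => h3 Y, ← Finset.sum_filter]
  exact Finset.sum_congr (by ext; simp) fun _ _ => rfl

end Averages

end TIData

end Cfsg.Agent.H25
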