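import Mathlib
import Cfsg.Agent.H25.TINorm
import Cfsg.Agent.H26.CharFS

/-!
# Products of restrictions and goodness of constituents
-/

set_option autoImplicit false

open scoped ComplexConjugate

namespace Cfsg.Agent.H25

universe u

/-- Values of a homomorphism to `ℂˣ` from a finite group have norm one. -/
theorem norm_homValue {H : Type u} [Group H] [Finite H] (f : H →* ℂˣ) (x : H) :
    ‖(f x : ℂ)‖ = 1 := by
  refine Complex.norm_eq_one_of_pow_eq_one (n := orderOf x) ?_ (orderOf_pos x).ne'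
  rw [← Units.val_pow_eq_pow_val, ← map_pow, pow_orderOf_eq_one, map_one, Units.val_one]

/-- Values of a homomorphism to `ℂˣ` are conjugated by inversion. -/
theorem conj_homValue {H : Type u} [Group H] [Finite H] (f : H →* ℂˣ) (x : H) :
    conj (f x : ℂ) = (((f x)⁻¹ : ℂˣ) : ℂ) := by
  rw [Units.val_inv_eq_inv_val, Complex.inv_eq_conj (norm_homValue f x)]

section

variable {H : Type u} [Group H] [Fintype H]

/-- The norm of `f f̄'` is the inner product of `f f̄` and `f' f̄'`. -/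
theorem classInner_mul_conj (f f' : H → ℂ) :
    Cfsg.classInner (fun x => f x * conj (f' x)) (fun x => f x * conj (f' x)) =
      Cfsg.classInner (fun x => f x * conj (f x)) (fun x => f' x * conj (f' x)) := by
  unfold Cfsg.classInner
  congr 1
  refine Finset.sum_congr rfl fun x _ => ?_
  simp only [map_mul, Complex.conj_conj]
  ring

/-- Pairing with the principal character. -/
theorem classInner_mul_conj_one (f f' : H → ℂ) :
    Cfsg.classInner (fun x => f x * conj (f' x)) (fun _ => 1) = Cfsg.classInner f f' := by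
  simp [Cfsg.classInner]

/-- Inner products of real functions. -/
theorem classInner_ofReal (f f' : H → ℝ) :
    Cfsg.classInner (fun x => (f x : ℂ)) (fun x => (f' x : ℂ)) =
      (((Nat.card H : ℝ)⁻¹ * ∑ x : H, f x * f' x : ℝ) : ℂ) := by
  simp [Cfsg.classInner]

/-- The product of an irreducible character with a conjugate one is a character. -/
theorem isCharacter_mul_conj (χ ψ : Cfsg.IrrCharacter H) :
    Cfsg.IsCharacter H fun x => χ.1 x * conj (ψ.1 x) :=
  H26.isCharacter_mul (H26.irr_isCharacter χ) (H26.irr_isCharacter (H26.conjIrr ψ))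

/-- Constituents of a character are trivial where the character takes its degree. -/
theorem constituent_apply_eq_one {R : H → ℂ} (hR : Cfsg.IsCharacter H R) {x : H} (hx : R x = R 1)
    (t : Cfsg.IrrCharacter H) (ht : Cfsg.classInner R t.1 ≠ 0) : t.1 x = t.1 1 := by
  obtain ⟨m, hm, hexp⟩ := H26.exists_nat_coeffs hR
  have hb : ∀ ψ : Cfsg.IrrCharacter H,
      (m ψ : ℝ) * (ψ.1 x).re ≤ (m ψ : ℝ) * Cfsg.charDegree ψ.1 := fun ψ =>
    mul_le_mul_of_nonneg_left ((Complex.re_le_norm _).trans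
      (norm_le_charDegree (H26.irr_isCharacter ψ) x)) (Nat.cast_nonneg _)
  have h1 : ∑ ψ, (m ψ : ℝ) * (ψ.1 x).re = ∑ ψ, (m ψ : ℝ) * Cfsg.charDegree ψ.1 := by
    have h := congrArg Complex.re hx
    rw [hexp] at h
    simp only [Finset.sum_apply, Pi.smul_apply, smul_eq_mul, Complex.re_sum,
      Complex.mul_re, Complex.natCast_re, Complex.natCast_im, zero_mul,
      sub_zero] at h
    rw [h]
    refine Finset.sum_congr rfl fun ψ _ => ?_
    rw [char_one_eq_charDegree (H26.irr_isCharacter ψ), Complex.natCast_re]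
  have h2 := (Finset.sum_eq_sum_iff_of_le fun ψ _ => hb ψ).mp h1 t (Finset.mem_univ _)
  have hmt : (m t : ℝ) ≠ 0 := fun h0 => ht (by rw [hm t, Nat.cast_eq_zero.mp h0, Nat.cast_zero])
  have h3 : (t.1 x).re = Cfsg.charDegree t.1 := mul_left_cancel₀ hmt h2
  have h4 : ‖t.1 x‖ = (t.1 x).re :=
    le_antisymm ((norm_le_charDegree (H26.irr_isCharacter t) x).trans h3.ge) (Complex.re_le_norm _)
  rw [char_one_eq_charDegree (H26.irr_isCharacter t)]
  refine Complex.ext (by rw [h3, Complex.natCast_re]) ?_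
  rw [Complex.natCast_im]
  have h5 := Complex.sq_norm (t.1 x)
  rw [h4, Complex.normSq_apply] at h5
  have : (t.1 x).im * (t.1 x).im = 0 := by nlinarith
  exact mul_self_eq_zero.mp this

end

namespace TIData

variable {G : Type u} [Group G] (D : TIData G)

/-- The kernel component of an element of `C`. -/
theorem π_kerPart (c : D.C) : D.π ((D.incl (D.π c))⁻¹ * c) = 1 := by
  rw [map_mul, map_inv, incl, D.π_coe, inv_mul_cancel]

/-- Conjugation preserves the kernel of the projection. -/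
theorem π_conjHom_one (g : D.N) {c : D.C} (hc : D.π c = 1) : D.π (D.conjHom g c) = 1 := by
  rw [π_conjHom, hc, map_one]

/-- An irreducible character of `C` trivial on the kernel of the projection comes from `P`. -/
theorem eq_hom_of_trivial [Finite G] [Fintype D.C] {t : D.C → ℂ} (ht : Cfsg.IsIrrCharacter D.C t)
    {η : D.P →* ℂˣ} (hη : D.Over t η) (hv : ∀ c, D.π c = 1 → t c = t 1) :
    t = fun c => (η (D.π c) : ℂ) := by
  have h1 : ∀ c, t c = (η (D.π c) : ℂ) * t 1 := fun c => by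
    have := D.over_iff.mp hη (D.π c) ((D.incl (D.π c))⁻¹ * c)
    rwa [mul_inv_cancel_left, hv _ (D.π_kerPart c)] at this
  have h2 : Cfsg.classInner t t = t 1 * conj (t 1) := by
    unfold Cfsg.classInner
    rw [Finset.sum_congr rfl fun c _ => show t c * conj (t c) = t 1 * conj (t 1) by
      rw [h1 c, map_mul, conj_homValue η]
      calc (η (D.π c) : ℂ) * t 1 * ((((η (D.π c))⁻¹ : ℂˣ) : ℂ) * conj (t 1))
          = ((η (D.π c) : ℂ) * (((η (D.π c))⁻¹ : ℂˣ) : ℂ)) * (t 1 * conj (t 1)) := by ring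
        _ = _ := by rw [Units.mul_inv, one_mul], Finset.sum_const, nsmul_eq_mul, Finset.card_univ,
      ← Nat.card_eq_fintype_card, inv_mul_cancel_left₀ (Nat.cast_ne_zero.mpr Nat.card_pos.ne')]
  rw [show Cfsg.classInner t t = 1 from H68.classInner_self_irr ht,
    char_one_eq_charDegree (H26.isCharacter_of_irr ht), Complex.conj_natCast, ← Nat.cast_mul,
    ← Nat.cast_one, Nat.cast_inj] at h2
  funext c
  rw [h1 c, char_one_eq_charDegree (H26.isCharacter_of_irr ht),
    Nat.eq_one_of_mul_eq_one_right h2.symm, Nat.cast_one, mul_one]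

/-- The restriction of a difference is the difference of the orbit sums. -/
theorem res_diff [Fintype G] [Fintype D.N] (s : D.C → ℂ) (ν : D.P →* ℂˣ) :
    D.res (D.diff s ν) = D.orbSum s - D.orbSum (D.tw s ν) := by
  classical
  funext t
  simp only [res, diff, indFun_apply, Pi.sub_apply, orbSum_apply]
  rw [← mul_sub, ← Finset.sum_sub_distrib]
  congr 1
  have key : ∀ x : G, x ∉ D.N →
      Cfsg.extendByZero D.C (s - D.tw s ν) (x⁻¹ * t * x) = 0 := by
    intro x hx
    by_cases hm : x⁻¹ * t * x ∈ D.C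
    · rw [extendByZero_of_mem _ _ hm]
      refine D.sub_tw_eq_zero s ν ?_
      have h' : x⁻¹ * (t : G) * x⁻¹⁻¹ ∈ D.C := by rwa [inv_inv]
      by_cases ht : D.π t = 1
      · simpa [inv_inv] using D.vclosed x⁻¹ t ht h'
      · by_contra hπ
        have := D.ti x⁻¹ t ht h' (by simpa [inv_inv] using hπ)
        exact hx (by simpa using inv_mem this)
    · exact extendByZero_of_notMem _ _ hm
  rw [← Finset.sum_filter_add_sum_filter_not Finset.univ (· ∈ D.N) (fun x : G =>
      Cfsg.extendByZero D.C (s - D.tw s ν) (x⁻¹ * t * x)),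
    Finset.sum_eq_zero (s := Finset.univ.filter (¬ · ∈ D.N))
      (fun x hx => key x (Finset.mem_filter.mp hx).2), add_zero,
    Finset.sum_subtype (p := (· ∈ D.N)) (F := inferInstance) _ (by simp)]
  refine Fintype.sum_equiv (Equiv.inv D.N) _ _ fun g => ?_
  have hm : (g : G)⁻¹ * t * g ∈ D.C := by simpa using D.conjC _ (inv_mem g.2) t t.2
  rw [extendByZero_of_mem _ _ hm]
  simp only [cj, Equiv.inv_apply, Pi.sub_apply]
  have he : (⟨(g : G)⁻¹ * t * g, hm⟩ : D.C) = D.conjHom g⁻¹ t := Subtype.ext (by simp [conjHom])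
  rw [he]

section Products

variable [Fintype G] [Fintype D.P] [Fintype D.C] [Fintype D.N]

omit [Fintype G] [Fintype D.C] [Fintype D.N] in
theorem avg_mul_conj {A S S' : D.C → ℂ} (hA : D.Over A 1) (hS : D.avg S = 0) (hS' : D.avg S' = 0) :
    D.avg (fun c => (A c + S c) * conj (A c + S' c)) =
      (fun c => A c * conj (A c)) + D.avg (fun c => S c * conj (S' c)) := by
  have hA' : D.Over (fun c => conj (A c)) 1 := fun x c => by
    show conj (A _) = _
    rw [hA x c]
    simp
  have he : (fun c => (A c + S c) * conj (A c + S' c)) =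
      ((A * fun c => conj (A c)) + (A * fun c => conj (S' c))) +
        (((fun c => conj (A c)) * S) + fun c => S c * conj (S' c)) := by
    funext c
    simp only [Pi.add_apply, Pi.mul_apply, map_add]
    ring
  rw [he, D.avg_add, D.avg_add, D.avg_add, D.avg_mul_inv hA, D.avg_mul_inv hA, D.avg_mul_inv hA',
    D.avg_conj S', hS, hS']
  classical
  rw [D.avg_over hA', if_pos rfl]
  funext c
  simp

omit [Fintype G] [Fintype D.C] in
theorem avg_orb_conj [Finite G] {s s' : D.C → ℂ} {μ ξ : D.P →* ℂˣ} (hμ : D.Over s μ)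
    (hξ : D.Over s' ξ) [DecidablePred fun p : D.N × D.N =>
      μ.comp (D.conjP' p.1) = ξ.comp (D.conjP' p.2)] :
    D.avg (fun c => D.orbSum s c * conj (D.orbSum s' c)) = fun c =>
      (Nat.card D.C : ℂ)⁻¹ * ((Nat.card D.C : ℂ)⁻¹ * ∑ g : D.N, ∑ h : D.N,
        if μ.comp (D.conjP' g) = ξ.comp (D.conjP' h) then D.cj g s c * conj (D.cj h s' c) else 0) := by
  classical
  let k : ℂ := (Nat.card D.C : ℂ)⁻¹
  have hover : ∀ g h : D.N, D.Over (fun c => D.cj g s c * conj (D.cj h s' c))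
      (μ.comp (D.conjP' g) * (ξ.comp (D.conjP' h))⁻¹) := by
    intro g h x c
    show D.cj g s _ * conj (D.cj h s' _) = _
    rw [D.over_cj g hμ x c, D.over_cj h hξ x c, map_mul, conj_homValue,
      MonoidHom.mul_apply, MonoidHom.inv_apply, Units.val_mul]
    ring
  have he : (fun c => D.orbSum s c * conj (D.orbSum s' c)) =
      k • ∑ g : D.N, k • ∑ h : D.N, fun c => D.cj g s c * conj (D.cj h s' c) := by
    funext c
    simp only [orbSum_apply, k, map_mul, map_inv₀, map_natCast, map_sum, Pi.smul_apply,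
      Finset.sum_apply, smul_eq_mul, Finset.mul_sum, Finset.sum_mul]
    rw [Finset.sum_comm]
    exact Finset.sum_congr rfl fun g _ => Finset.sum_congr rfl fun h _ => by ring
  rw [he, D.avg_smul, D.avg_sum]
  funext c
  simp only [D.avg_smul, D.avg_sum, D.avg_over (hover _ _), mul_inv_eq_one, Pi.smul_apply,
    Finset.sum_apply, smul_eq_mul, k, ← Finset.mul_sum]
  congr 2
  refine Finset.sum_congr rfl fun g _ => Finset.sum_congr rfl fun h _ => ?_
  by_cases hh : μ.comp (D.conjP' g) = ξ.comp (D.conjP' h)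
  · rw [if_pos hh, if_pos (mul_inv_eq_one.mpr hh)]
  · rw [if_neg hh, if_neg (fun h' => hh (mul_inv_eq_one.mp h'))]
    rfl

omit [Fintype G] [Fintype D.C] in
theorem avg_orb_conj_zero [Finite G] {s s' : D.C → ℂ} {μ ξ : D.P →* ℂˣ} (hμ : D.Over s μ)
    (hξ : D.Over s' ξ) (hne : ∀ g : D.N, μ.comp (D.conjP' g) ≠ ξ) :
    D.avg (fun c => D.orbSum s c * conj (D.orbSum s' c)) = 0 := by
  classical
  have key : ∀ g h : D.N, μ.comp (D.conjP' g) ≠ ξ.comp (D.conjP' h) := fun g h hh =>
    hne (g * h⁻¹) (by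
      rw [D.comp_conjP'_mul, hh, ← D.comp_conjP'_mul, mul_inv_cancel, D.comp_conjP'_one])
  rw [D.avg_orb_conj hμ hξ]
  funext c
  simp [key]

/-- The sum of the squared absolute values over an orbit. -/
noncomputable def orbSq (s : D.C → ℂ) : D.C → ℝ :=
  fun c => (Nat.card D.C : ℝ)⁻¹ * ∑ g : D.N, Complex.normSq (D.cj g s c)

omit [Fintype G] in
theorem avg_orb_conj_self [Finite G] {s : D.C → ℂ} (hs : Cfsg.IsIrrCharacter D.C s) (hsn : D.NT s) :
    D.avg (fun c => D.orbSum s c * conj (D.orbSum s c)) = fun c => (D.orbSq s c : ℂ) := by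
  classical
  obtain ⟨μ, hμ⟩ := D.exists_over hs
  rw [D.avg_orb_conj hμ hμ]
  funext c
  have hfix : ∀ g h : D.N, (μ.comp (D.conjP' g) = μ.comp (D.conjP' h)) ↔
      D.cj h s = D.cj g s := by
    intro g h
    constructor
    · intro he
      have hfx : μ.comp (D.conjP' (h * g⁻¹)) = μ := by
        rw [D.comp_conjP'_mul, ← he, ← D.comp_conjP'_mul, mul_inv_cancel, D.comp_conjP'_one]
      have := D.cj_of_mem (H26.irr_isClassFunction ⟨s, hs⟩) (h * g⁻¹)
        (D.mem_C_of_fixed (D.over_ne_one hsn hμ) _ hfx)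
      have h2 := congrArg (D.cj g) this
      rwa [cj_cj, inv_mul_cancel_right] at h2
    · intro he
      exact D.over_unique (D.irr_ne_zero (D.isIrr_cj g hs)) (D.over_cj g hμ) (he ▸ D.over_cj h hμ)
  have hinner : ∀ g : D.N, (∑ h : D.N, if μ.comp (D.conjP' g) = μ.comp (D.conjP' h) then
      D.cj g s c * conj (D.cj h s c) else 0) =
      (Nat.card D.C : ℂ) * (Complex.normSq (D.cj g s c) : ℂ) := by
    intro g
    have h1 : ∀ h : D.N, (if μ.comp (D.conjP' g) = μ.comp (D.conjP' h) then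
        D.cj g s c * conj (D.cj h s c) else 0) =
        if D.cj h s = D.cj g s then D.cj g s c * conj (D.cj g s c) else 0 := by
      intro h
      by_cases hh : D.cj h s = D.cj g s
      · rw [if_pos ((hfix g h).mpr hh), if_pos hh, hh]
      · rw [if_neg (fun he => hh ((hfix g h).mp he)), if_neg hh]
    rw [Finset.sum_congr rfl fun h _ => h1 h, ← Finset.sum_filter, Finset.sum_const,
      D.sum_indicator_cj hs hμ (D.over_ne_one hsn hμ) (D.cj g s), if_pos ⟨g, rfl⟩, nsmul_eq_mul,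
      Complex.mul_conj]
  rw [Finset.sum_congr rfl fun g _ => hinner g, ← Finset.mul_sum,
    inv_mul_cancel_left₀ (Nat.cast_ne_zero.mpr Nat.card_pos.ne'), orbSq]
  push_cast
  rfl

omit [Fintype G] [Fintype D.P] [Fintype D.C] in
theorem orbSq_tw [Finite G] (s : D.C → ℂ) (ν : D.P →* ℂˣ) : D.orbSq (D.tw s ν) = D.orbSq s := by
  funext c
  simp only [orbSq, cj_tw]
  congr 1
  refine Finset.sum_congr rfl fun g _ => ?_
  rw [tw, Complex.normSq_mul, Complex.normSq_eq_norm_sq, norm_homValue, one_pow, one_mul]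

omit [Fintype G] [Fintype D.P] [Fintype D.C] in
theorem orbSq_nonneg (s : D.C → ℂ) (c : D.C) : 0 ≤ D.orbSq s c :=
  mul_nonneg (inv_nonneg.mpr (Nat.cast_nonneg _)) (Finset.sum_nonneg fun _ _ => Complex.normSq_nonneg _)

omit [Fintype G] [Fintype D.P] [Fintype D.C] in
theorem orbSq_one [Finite G] {s : D.C → ℂ} (hs : Cfsg.IsIrrCharacter D.C s) :
    D.orbSq s 1 = (D.e : ℝ) * ((Cfsg.charDegree s : ℝ) * Cfsg.charDegree s) := by
  have h1 : ∀ g : D.N, D.cj g s 1 = (Cfsg.charDegree s : ℂ) := fun g => by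
    rw [cj, map_one, char_one_eq_charDegree (H26.isCharacter_of_irr hs)]
  have hne : (Nat.card D.C : ℝ) ≠ 0 := Nat.cast_ne_zero.mpr Nat.card_pos.ne'
  simp only [orbSq, h1, Complex.normSq_natCast, Finset.sum_const, nsmul_eq_mul, Finset.card_univ,
    ← Nat.card_eq_fintype_card]
  rw [← D.e_mul_card, Nat.cast_mul]
  field_simp

omit [Fintype G] [Fintype D.P] in
theorem sum_orbSq [Finite G] {s : D.C → ℂ} (hs : Cfsg.IsIrrCharacter D.C s) :
    ∑ c : D.C, D.orbSq s c = (D.e : ℝ) * Nat.card D.C := by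
  have h1 : ∀ g : D.N, ∑ c : D.C, Complex.normSq (D.cj g s c) = Nat.card D.C := by
    intro g
    have h := H68.classInner_self_irr (D.isIrr_cj g hs)
    have hne : (Nat.card D.C : ℂ) ≠ 0 := Nat.cast_ne_zero.mpr Nat.card_pos.ne'
    rw [Cfsg.classInner, inv_mul_eq_one₀ hne] at h
    simp only [Complex.mul_conj, ← Complex.ofReal_sum] at h
    exact_mod_cast h.symm
  have hne : (Nat.card D.C : ℝ) ≠ 0 := Nat.cast_ne_zero.mpr Nat.card_pos.ne'
  simp only [orbSq, ← Finset.mul_sum]
  rw [Finset.sum_comm, Finset.sum_congr rfl fun g _ => h1 g, Finset.sum_const, nsmul_eq_mul,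
    Finset.card_univ, ← Nat.card_eq_fintype_card, ← D.e_mul_card, Nat.cast_mul]
  field_simp

end Products

section Constituents

variable [Fintype G] [Fintype D.C]

/-- Multiplicities in a restriction through the irreducible constituents. -/
theorem mult_res_eq_sum {W : G → ℂ} (hW : Cfsg.IsCharacter G W)
    {m : Cfsg.IrrCharacter G → ℕ} (hm : ∀ Y, Cfsg.classInner W Y.1 = m Y) {t : D.C → ℂ}
    (ht : Cfsg.IsIrrCharacter D.C t) :
    D.mult (D.res W) t = ∑ Y, m Y * D.mult (D.res Y.1) t := by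
  have h := H26.class_function_expansion W (H26.isClassFunction_of_isCharacter hW)
  have hres : D.res W = ∑ Y : Cfsg.IrrCharacter G, Cfsg.classInner W Y.1 • D.res Y.1 := by
    funext c
    simpa [res, Finset.sum_apply] using congrFun h c
  have h2 : (D.mult (D.res W) t : ℂ) = ((∑ Y, m Y * D.mult (D.res Y.1) t : ℕ) : ℂ) := by
    rw [D.mult_eq (D.isCharacter_res hW) ht, hres, H26.classInner_sum_left, Nat.cast_sum]
    refine Finset.sum_congr rfl fun Y _ => ?_
    rw [H26.classInner_smul_left, hm Y, Nat.cast_mul,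
      D.mult_eq (D.isCharacter_res (H26.irr_isCharacter Y)) ht]
  exact Nat.cast_inj.mp h2

theorem mult_le_of_constituent {W : G → ℂ} (hW : Cfsg.IsCharacter G W)
    {Y : Cfsg.IrrCharacter G} (hY : Cfsg.classInner W Y.1 ≠ 0) {t : D.C → ℂ}
    (ht : Cfsg.IsIrrCharacter D.C t) : D.mult (D.res Y.1) t ≤ D.mult (D.res W) t := by
  obtain ⟨m, hm, -⟩ := H26.exists_nat_coeffs hW
  rw [D.mult_res_eq_sum hW hm ht]
  refine le_trans ?_ (Finset.single_le_sum (f := fun Y => m Y * D.mult (D.res Y.1) t)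
    (fun _ _ => Nat.zero_le _) (Finset.mem_univ Y))
  exact Nat.le_mul_of_pos_left _ (Nat.pos_of_ne_zero fun h0 => hY (by simp [hm Y, h0]))

variable [Fintype D.P]

theorem ntDeg_le_of_constituent {W : G → ℂ} (hW : Cfsg.IsCharacter G W)
    {Y : Cfsg.IrrCharacter G} (hY : Cfsg.classInner W Y.1 ≠ 0) :
    D.ntDeg (D.res Y.1) ≤ D.ntDeg (D.res W) := by
  classical
  refine Finset.sum_le_sum fun t _ => ?_
  split_ifs
  · exact Nat.mul_le_mul_right _ (D.mult_le_of_constituent hW hY t.2)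
  · exact le_rfl

/-- An irreducible character with vanishing nontrivial part is principal, under `hsimple`. -/
theorem exists_nt_mult (hsimple : ∀ Y : Cfsg.IrrCharacter G, D.nt (D.res Y.1) = 0 → Y = H26.oneIrr G)
    {Y : Cfsg.IrrCharacter G} (hY : Y ≠ H26.oneIrr G) :
    ∃ t, Cfsg.IsIrrCharacter D.C t ∧ D.NT t ∧ D.mult (D.res Y.1) t ≠ 0 := by
  classical
  by_contra hc
  refine hY (hsimple Y ?_)
  rw [D.nt_eq_sum (D.isCharacter_res (H26.irr_isCharacter Y))]
  refine Finset.sum_eq_zero fun t _ => ?_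
  split_ifs with h
  · have : D.mult (D.res Y.1) t.1 = 0 := by_contra fun hne => hc ⟨t.1, t.2, h, hne⟩
    simp [this]
  · simp

omit [Fintype G] [Fintype D.P] in
theorem one_notMem_supp (R : D.C → ℂ) : (1 : D.P →* ℂˣ) ∉ D.supp R := fun h => h.1 rfl

omit [Fintype D.P] in
/-- The support of a restriction is invariant. -/
theorem orbP_subset_supp {Y : G → ℂ} (hY : Cfsg.IsClassFunction G Y) {μ : D.P →* ℂˣ}
    (hμ : μ ∈ D.supp (D.res Y)) : D.orbP μ ⊆ D.supp (D.res Y) := by
  rintro _ ⟨g, rfl⟩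
  obtain ⟨h1, s, hs, hsμ, hm⟩ := hμ
  refine ⟨fun h => D.one_notMem_orbP h1 (h ▸ ⟨g, rfl⟩), _, D.isIrr_cj g hs, D.over_cj g hsμ, ?_⟩
  rwa [D.mult_orb hY ⟨g, rfl⟩]

variable [Fintype D.N]

/-- A constituent of small nontrivial degree is good. -/
theorem good_of_small
    (hsimple : ∀ Y : Cfsg.IrrCharacter G, D.nt (D.res Y.1) = 0 → Y = H26.oneIrr G)
    {Y : Cfsg.IrrCharacter G} (hY : Y ≠ H26.oneIrr G)
    (h : (D.supp (D.res Y.1)).ncard + D.e + 1 < Nat.card D.P) : ∃ s, D.Good Y.1 s := by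
  obtain ⟨s, hs, hsn, hm⟩ := D.exists_nt_mult hsimple hY
  obtain ⟨μ₁, h1, hf1⟩ := D.exists_notMem (S := D.supp (D.res Y.1)) (by omega)
  obtain ⟨μ₂, h2, hf2⟩ := D.exists_notMem (S := D.supp (D.res Y.1) ∪ D.orbP μ₁) (by
    have := Set.ncard_union_le (D.supp (D.res Y.1)) (D.orbP μ₁)
    rw [D.ncard_orbP h1] at this
    omega)
  rw [Set.mem_union, not_or] at hf2
  obtain ⟨hm1, horb⟩ := D.good_of_two_free hs hsn hm h1 h2 hf1 hf2.1 fun g hg => hf2.2 ⟨g, hg⟩
  exact ⟨s, D.good_of_mult (H26.irr_isCharacter Y) hs hsn hm1 horb⟩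

/-- A constituent which is not good avoids exactly one orbit. -/
theorem exists_single_free
    (hsimple : ∀ Y : Cfsg.IrrCharacter G, D.nt (D.res Y.1) = 0 → Y = H26.oneIrr G)
    {Y : Cfsg.IrrCharacter G} (hY : Y ≠ H26.oneIrr G) (hbad : ¬ ∃ s, D.Good Y.1 s)
    {N : ℕ} (hN : D.ntDeg (D.res Y.1) ≤ N) (heN : D.e ∣ N) (hlt : N + 1 < Nat.card D.P) :
    ∃ μ₀, μ₀ ≠ 1 ∧ μ₀ ∉ D.supp (D.res Y.1) ∧
      (∀ η, η ≠ 1 → η ∉ D.orbP μ₀ → η ∈ D.supp (D.res Y.1)) ∧
      (D.supp (D.res Y.1)).ncard = N ∧ N + D.e + 1 = Nat.card D.P := by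
  haveI := D.finite_homs
  have hYc := H26.irr_isClassFunction Y
  obtain ⟨s, hs, hsn, hm⟩ := D.exists_nt_mult hsimple hY
  have hsupp := (D.ncard_supp_le (R := D.res Y.1)).trans hN
  obtain ⟨μ₀, h0, hf0⟩ := D.exists_notMem (S := D.supp (D.res Y.1)) (by omega)
  have hall : ∀ η, η ≠ 1 → η ∉ D.orbP μ₀ → η ∈ D.supp (D.res Y.1) := by
    intro η hη hno
    by_contra hf
    obtain ⟨hm1, horb⟩ := D.good_of_two_free hs hsn hm h0 hη hf0 hf fun g hg => hno ⟨g, hg⟩
    exact hbad ⟨s, D.good_of_mult (H26.irr_isCharacter Y) hs hsn hm1 horb⟩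
  have hdisj : Disjoint (D.supp (D.res Y.1)) (D.orbP μ₀) := by
    refine Set.disjoint_left.mpr fun η hη hη' => hf0 ?_
    exact D.orbP_subset_supp hYc hη (D.orbP_eq_of_mem hη' ▸ D.mem_orbP_self μ₀)
  have hunion : D.supp (D.res Y.1) ∪ D.orbP μ₀ = ({1}ᶜ : Set (D.P →* ℂˣ)) := by
    ext η
    simp only [Set.mem_union, Set.mem_compl_iff, Set.mem_singleton_iff]
    constructor
    · rintro (h | h) rfl
      · exact D.one_notMem_supp _ h
      · exact D.one_notMem_orbP h0 h
    · exact fun h => (em (η ∈ D.orbP μ₀)).symm.imp (hall η h) id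
  have hcard := Set.ncard_union_eq hdisj
  rw [hunion, Set.ncard_compl, Set.ncard_singleton, D.card_homs, D.ncard_orbP h0] at hcard
  obtain ⟨a, ha⟩ := D.e_dvd_ncard (D.one_notMem_supp (D.res Y.1)) fun μ hμ =>
    D.orbP_subset_supp hYc hμ
  obtain ⟨b, hb⟩ := heN
  have hlt' : D.e * b < D.e * (a + 1) := by rw [mul_add, mul_one]; omega
  have hba : b ≤ a := Nat.lt_succ_iff.mp (Nat.lt_of_mul_lt_mul_left hlt')
  have hle := Nat.mul_le_mul_left D.e hba
  exact ⟨μ₀, h0, hf0, hall, by omega, by omega⟩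

end Constituents

end TIData

end Cfsg.Agent.H25
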