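import Mathlib
import Cfsg.Agent.H25.Burnside
import Cfsg.Agent.H19.Misc
import Cfsg.Agent.H90.SylowFormula

/-!
# Groups all of whose Sylow numbers are prime powers
-/

set_option autoImplicit false

namespace Cfsg.Agent.H25

universe u

/-- A subgroup of index prime to `t` contains a Sylow `t`-subgroup. -/
theorem exists_sylow_le_of_not_dvd_index {G : Type u} [Group G] [Finite G] {t : ℕ} [Fact t.Prime]
    (H : Subgroup G) (h : ¬ t ∣ H.index) : ∃ T : Sylow t G, (T : Subgroup G) ≤ H := by
  obtain ⟨S⟩ : Nonempty (Sylow t H) := inferInstance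
  obtain ⟨T, hT⟩ := (S.isPGroup'.map H.subtype).exists_le_sylow
  refine ⟨T, ?_⟩
  have hc : Nat.card T = Nat.card ((S : Subgroup H).map H.subtype) := by
    rw [Subgroup.card_map_of_injective H.subtype_injective, T.card_eq_multiplicity,
      S.card_eq_multiplicity, ← H.card_mul_index, Nat.factorization_mul Nat.card_pos.ne'
        Subgroup.index_ne_zero_of_finite, Finsupp.add_apply,
      Nat.factorization_eq_zero_of_not_dvd h, add_zero]
  rw [← Subgroup.eq_of_le_of_card_ge hT hc.le]
  exact Subgroup.map_subtype_le _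

/-- Two Sylow numbers with different primes are powers of each other's prime. -/
theorem eq_of_sylow_number_ne {G : Type u} [Group G] [Finite G] [IsSimpleGroup G] {r t a b : ℕ}
    [Fact r.Prime] [Fact t.Prime] (ha : a.Prime) (hb : b.Prime) {i j : ℕ}
    (hr : Nat.card (Sylow r G) = a ^ i) (hr1 : Nat.card (Sylow r G) ≠ 1)
    (ht : Nat.card (Sylow t G) = b ^ j) (htG : t ∣ Nat.card G) (hab : a ≠ b) : t = a := by
  by_contra hta
  obtain ⟨R⟩ : Nonempty (Sylow r G) := inferInstance
  have hH : (Subgroup.normalizer ((R : Subgroup G) : Set G)).index = a ^ i := by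
    rw [← hr, R.card_eq_index_normalizer]
    rfl
  obtain ⟨T, hT⟩ := exists_sylow_le_of_not_dvd_index (t := t)
    (Subgroup.normalizer ((R : Subgroup G) : Set G)) (fun h => hta
      ((Nat.prime_dvd_prime_iff_eq Fact.out ha).mp ((Fact.out : t.Prime).dvd_of_dvd_pow (hH ▸ h))))
  have hK : (Subgroup.normalizer ((T : Subgroup G) : Set G)).index = b ^ j := by
    rw [← ht, T.card_eq_index_normalizer]
    rfl
  have hfac := (H19.index_inf_of_coprime (H := Subgroup.normalizer ((R : Subgroup G) : Set G))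
    (K := Subgroup.normalizer ((T : Subgroup G) : Set G)) (by
      rw [hH, hK]
      exact Nat.Coprime.pow _ _ ((Nat.coprime_primes ha hb).mpr hab))).2
  have hle : Subgroup.normalClosure ((T : Subgroup G) : Set G) ≤
      Subgroup.normalizer ((R : Subgroup G) : Set G) := by
    refine (Subgroup.closure_le _).mpr fun z hz => ?_
    obtain ⟨y, hy, hyz⟩ := Group.mem_conjugatesOfSet_iff.mp hz
    obtain ⟨g, rfl⟩ := isConj_iff.mp hyz
    obtain ⟨x, hx, k, hk, rfl⟩ := hfac g
    rw [show x * k * y * (x * k)⁻¹ = x * (k * y * k⁻¹) * x⁻¹ by group]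
    exact mul_mem (mul_mem hx (hT ((Subgroup.mem_normalizer_iff.mp hk y).mp hy))) (inv_mem hx)
  rcases (Subgroup.normalClosure_normal (s := ((T : Subgroup G) : Set G))).eq_bot_or_eq_top with
    h | h
  · exact T.ne_bot_of_dvd_card htG (le_bot_iff.mp (h ▸ Subgroup.le_normalClosure))
  · rw [h, top_le_iff] at hle
    exact hr1 (by rw [hr, ← hH, hle, Subgroup.index_top])

/-- A nonabelian simple group has a Sylow number which is not a prime power. -/
theorem isSolvable_of_simple_of_sylow_numbers {G : Type u} [Group G] [Finite G] [IsSimpleGroup G]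
    (h : ∀ r : ℕ, r.Prime → ∃ s k : ℕ, s.Prime ∧ Nat.card (Sylow r G) = s ^ k) :
    Group.IsSolvable G := by
  by_contra hns
  choose! s k hs hk using h
  have hne1 : ∀ r, r.Prime → r ∣ Nat.card G → Nat.card (Sylow r G) ≠ 1 := by
    intro r hr hrG h1
    haveI : Fact r.Prime := ⟨hr⟩
    obtain ⟨R⟩ : Nonempty (Sylow r G) := inferInstance
    haveI : (R : Subgroup G).Normal := by
      rw [← Subgroup.normalizer_eq_top_iff, ← Subgroup.index_eq_one]
      rw [R.card_eq_index_normalizer] at h1
      exact h1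
    rcases Subgroup.Normal.eq_bot_or_eq_top (inferInstance : (R : Subgroup G).Normal) with hb | ht
    · exact R.ne_bot_of_dvd_card hrG hb
    · haveI := R.isPGroup'.isNilpotent
      have : Group.IsNilpotent G := Group.nilpotent_of_mulEquiv
        ((MulEquiv.subgroupCongr ht).trans Subgroup.topEquiv)
      exact hns inferInstance
  have hsG : ∀ r, r.Prime → r ∣ Nat.card G → s r ∣ Nat.card G ∧ s r ≠ r := by
    intro r hr hrG
    haveI : Fact r.Prime := ⟨hr⟩
    obtain ⟨R⟩ : Nonempty (Sylow r G) := inferInstance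
    have hk0 : k r ≠ 0 := fun h0 => hne1 r hr hrG (by rw [hk r hr, h0, pow_zero])
    refine ⟨(dvd_pow_self (s r) hk0).trans ?_, fun hsr => ?_⟩
    · rw [← hk r hr, R.card_eq_index_normalizer]
      exact Subgroup.index_dvd_card _
    · have hmod := card_sylow_modEq_one r G
      rw [hk r hr, hsr] at hmod
      have h0 : r ^ k r % r = 0 := Nat.dvd_iff_mod_eq_zero.mp (dvd_pow_self r hk0)
      rw [Nat.ModEq, h0, Nat.one_mod_eq_one.mpr hr.ne_one] at hmod
      exact zero_ne_one hmod
  have key : ∀ r t, r.Prime → t.Prime → r ∣ Nat.card G → t ∣ Nat.card G → s r ≠ s t → t = s r := by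
    intro r t hr ht hrG htG hne
    haveI : Fact r.Prime := ⟨hr⟩
    haveI : Fact t.Prime := ⟨ht⟩
    exact eq_of_sylow_number_ne (hs r hr) (hs t ht) (hk r hr) (hne1 r hr hrG) (hk t ht) htG hne
  have hG1 : Nat.card G ≠ 1 := fun h1 => by
    haveI : Subsingleton G := (Nat.card_eq_one_iff_unique.mp h1).1
    exact hns inferInstance
  obtain ⟨r, hr, hrG⟩ := Nat.exists_prime_and_dvd hG1
  obtain ⟨huG, hur⟩ := hsG r hr hrG
  have hu := hs r hr
  have hsu : s (s r) = r := by
    have h := (hsG (s r) hu huG).2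
    exact (key (s r) r hu hr huG hrG h).symm
  obtain ⟨v, hv, hvG, hvr, hvu⟩ : ∃ v, v.Prime ∧ v ∣ Nat.card G ∧ v ≠ r ∧ v ≠ s r := by
    by_contra hc
    push_neg at hc
    refine hns (isSolvable_of_card_eq_mul_pow hr hu (a := (Nat.card G).factorization r)
      (b := (Nat.card G).factorization (s r)) ?_)
    have hsub : (Nat.card G).primeFactors = {r, s r} := by
      ext x
      simp only [Nat.mem_primeFactors, Finset.mem_insert, Finset.mem_singleton]
      constructor
      · rintro ⟨hx, hxG, -⟩
        by_cases hxr : x = r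
        · exact Or.inl hxr
        · exact Or.inr (hc x hx hxG hxr)
      · rintro (rfl | rfl)
        · exact ⟨hr, hrG, Nat.card_pos.ne'⟩
        · exact ⟨hu, huG, Nat.card_pos.ne'⟩
    conv_lhs => rw [← Nat.prod_factorization_pow_eq_self (n := Nat.card G) Nat.card_pos.ne']
    rw [Finsupp.prod, Nat.support_factorization, hsub, Finset.prod_pair (Ne.symm hur)]
  have hsv : s v = s r := by
    by_contra h
    exact hvu (key r v hr hv hrG hvG (Ne.symm h))
  refine hvr ?_
  rw [← hsu]
  exact key (s r) v hu hv huG hvG (by rw [hsu, hsv]; exact Ne.symm hur)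

/-- A divisor of a prime power is a prime power. -/
theorem exists_prime_pow_of_dvd {m n : ℕ} (hn : ∃ s k : ℕ, s.Prime ∧ n = s ^ k) (h : m ∣ n) :
    ∃ s k : ℕ, s.Prime ∧ m = s ^ k := by
  obtain ⟨s, k, hs, rfl⟩ := hn
  obtain ⟨i, -, rfl⟩ := (Nat.dvd_prime_pow hs).mp h
  exact ⟨s, i, hs, rfl⟩

/-- A finite group all of whose Sylow numbers are prime powers is solvable. -/
theorem isSolvable_of_sylow_numbers :
    ∀ (m : ℕ) (G : Type u) [Group G] [Finite G], Nat.card G = m →
      (∀ r : ℕ, r.Prime → ∃ s k : ℕ, s.Prime ∧ Nat.card (Sylow r G) = s ^ k) →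
      Group.IsSolvable G := by
  intro m
  induction m using Nat.strong_induction_on with
  | h m ih =>
    intro G _ _ hm h
    rcases subsingleton_or_nontrivial G with hG | hG
    · infer_instance
    by_cases hs : IsSimpleGroup G
    · exact isSolvable_of_simple_of_sylow_numbers h
    obtain ⟨K, hK, hKb, hKt⟩ : ∃ K : Subgroup G, K.Normal ∧ K ≠ ⊥ ∧ K ≠ ⊤ := by
      by_contra hc
      push_neg at hc
      exact hs ⟨fun H hH => (em (H = ⊥)).imp id (hc H hH)⟩
    haveI := hK
    have hdvd : ∀ (r : ℕ) [Fact r.Prime], Nat.card (Sylow r (G ⧸ K)) ∣ Nat.card (Sylow r G) ∧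
        Nat.card (Sylow r K) ∣ Nat.card (Sylow r G) := by
      intro r _
      obtain ⟨P⟩ : Nonempty (Sylow r G) := inferInstance
      haveI : (((P : Subgroup G) ⊓ K).subgroupOf (((P : Subgroup G) ⊔ K) ⊓
          Subgroup.normalizer (((P : Subgroup G) ⊓ K : Subgroup G) : Set G))).Normal :=
        ⟨fun n hn g => by
          rw [Subgroup.mem_subgroupOf] at hn ⊢
          exact (Subgroup.mem_normalizer_iff.mp g.2.2 _).mp hn⟩
      rw [H90.card_sylow_formula K P _ rfl]
      exact ⟨(dvd_mul_right _ _).trans (dvd_mul_right _ _),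
        (dvd_mul_left _ _).trans (dvd_mul_right _ _)⟩
    have hK1 : 1 < Nat.card K := (Subgroup.one_lt_card_iff_ne_bot _).mpr hKb
    have hi1 : 1 < K.index := lt_of_le_of_ne
      (Nat.one_le_iff_ne_zero.mpr K.index_ne_zero_of_finite)
      (fun e => hKt (Subgroup.index_eq_one.mp e.symm))
    have hmul := K.card_mul_index
    rw [hm] at hmul
    haveI : Group.IsSolvable K := ih (Nat.card K)
      (by rw [← hmul]; exact lt_mul_of_one_lt_right Nat.card_pos hi1) K rfl fun r hr =>
        haveI : Fact r.Prime := ⟨hr⟩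
        exists_prime_pow_of_dvd (h r hr) (hdvd r).2
    haveI : Group.IsSolvable (G ⧸ K) := ih (Nat.card (G ⧸ K))
      (by
        rw [← hmul, ← Subgroup.index_eq_card]
        exact lt_mul_of_one_lt_left (by omega) hK1) (G ⧸ K) rfl fun r hr =>
        haveI : Fact r.Prime := ⟨hr⟩
        exists_prime_pow_of_dvd (h r hr) (hdvd r).1
    exact solvable_of_ker_le_range K.subtype (QuotientGroup.mk' K) (by simp)

end Cfsg.Agent.H25
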