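import Mathlib
import Cfsg.Agent.S4456
import Cfsg.Agent.H25.MonomialNilQuot
import Cfsg.Agent.H44.NormalDegrees
import Cfsg.Agent.H26.CharLinear

/-!
# Groups with two irreducible character degrees
-/

set_option autoImplicit false

open scoped commutatorElement

namespace Cfsg.Agent.H25

universe u

variable {G : Type u} [Group G]

/-- The degree of an irreducible character divides the group order. -/
theorem charDegree_dvd_card [Finite G] (χ : Cfsg.IrrCharacter G) :
    Cfsg.charDegree (χ : G → ℂ) ∣ Nat.card G := by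
  haveI := Fintype.ofFinite G
  obtain ⟨n, ρ, hρ, e⟩ := χ.2
  haveI := hρ
  have h : Cfsg.charDegree (χ : G → ℂ) = n := by simp [Cfsg.charDegree, ← e]
  have h2 := finrank_dvd_card ρ
  rw [Module.finrank_fin_fun] at h2
  rw [h]
  exact h2

/-- Normal complements for several primes give a normal subgroup with nilpotent quotient. -/
theorem exists_normal_coprime_nilpotent_quotient [Finite G] {m : ℕ} (hm : m ≠ 0)
    (h : ∀ p : ℕ, p.Prime → p ∣ m →
      ∃ N : Subgroup G, N.Normal ∧ (Nat.card N).Coprime p ∧ ∃ k : ℕ, N.index = p ^ k) :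
    ∃ (K : Subgroup G) (_ : K.Normal), (Nat.card K).Coprime m ∧ Group.IsNilpotent (G ⧸ K) := by
  classical
  choose N hNn hNc hNi using fun p : {p // p ∈ m.primeFactors} =>
    h p.1 (Nat.prime_of_mem_primeFactors p.2) (Nat.dvd_of_mem_primeFactors p.2)
  haveI := hNn
  let f : G →* ∀ p, G ⧸ N p := Pi.monoidHom fun p => QuotientGroup.mk' (N p)
  haveI hnil : ∀ p, Group.IsNilpotent (G ⧸ N p) := fun p => by
    haveI : Fact p.1.Prime := ⟨Nat.prime_of_mem_primeFactors p.2⟩
    obtain ⟨k, hk⟩ := hNi p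
    exact (IsPGroup.of_card (p := p.1) (n := k)
      (by rw [← Subgroup.index_eq_card]; exact hk)).isNilpotent
  refine ⟨f.ker, inferInstance, ?_, ?_⟩
  · refine Nat.coprime_of_dvd fun q hq hqK hqm => ?_
    have hmem : q ∈ m.primeFactors := Nat.mem_primeFactors.mpr ⟨hq, hqm, hm⟩
    have hle : f.ker ≤ N ⟨q, hmem⟩ := fun x hx =>
      (QuotientGroup.eq_one_iff x).mp (congrFun (MonoidHom.mem_ker.mp hx) ⟨q, hmem⟩)
    exact hq.coprime_iff_not_dvd.mp (hNc ⟨q, hmem⟩).symm (hqK.trans (Subgroup.card_dvd_of_le hle))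
  · exact Group.nilpotent_of_mulEquiv (QuotientGroup.quotientKerEquivRange f).symm

/-- The second derived subgroup dies in a monomial character whose inducing index is minimal. -/
theorem apply_commutator_eq_one [Fintype G] {m : ℕ}
    (hcd : ∀ χ : Cfsg.IrrCharacter G, Cfsg.charDegree (χ : G → ℂ) = 1 ∨
      Cfsg.charDegree (χ : G → ℂ) = m)
    (χ : Cfsg.IrrCharacter G) (H : Subgroup G) (lam : H →* ℂˣ)
    (hχ : χ.1 = Cfsg.indFun H (fun h => (lam h : ℂ))) {a b : G} (ha : a ∈ commutator G)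
    (hb : b ∈ commutator G) : χ.1 ⁅a, b⁆ = χ.1 1 := by
  classical
  set P := Cfsg.indFun H (fun _ => (1 : ℂ)) with hP
  have hχ1 : χ.1 1 = (H.index : ℂ) := by rw [hχ, indFun_one]; simp
  have hPchar : Cfsg.IsCharacter G P :=
    isCharacter_indFun H (H26.isCharacter_of_irr (H26.oneIrr H).2)
  obtain ⟨c, hc, hcP⟩ := H26.exists_nat_coeffs hPchar
  have hone : c (H26.oneIrr G) = 1 := by
    have h1 := hc (H26.oneIrr G)
    rw [hP, classInner_indFun_left H _ _ (H26.irr_isClassFunction _),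
      show (fun h : H => (H26.oneIrr G).1 h) = fun _ => (1 : ℂ) from rfl,
      show Cfsg.classInner (fun _ : H => (1 : ℂ)) (fun _ => 1) = 1 from
        H57.irr_inner_self (H26.oneIrr H).2] at h1
    exact_mod_cast h1.symm
  have hsum : H.index = ∑ ψ, c ψ * Cfsg.charDegree (ψ : G → ℂ) := by
    have h2 : P 1 = (H.index : ℂ) := by rw [hP, indFun_one, mul_one]
    rw [hcP, Finset.sum_apply] at h2
    have h3 : ((∑ ψ, c ψ * Cfsg.charDegree (ψ : G → ℂ) : ℕ) : ℂ) = (H.index : ℂ) := by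
      rw [← h2, Nat.cast_sum]
      refine Finset.sum_congr rfl fun ψ _ => ?_
      rw [Pi.smul_apply, smul_eq_mul, Nat.cast_mul, H44.cast_charDegree]
    exact_mod_cast h3.symm
  have hdeg : Cfsg.charDegree (χ : G → ℂ) = H.index := by simp [Cfsg.charDegree, hχ1]
  have hlin : ∀ ψ, c ψ ≠ 0 → Cfsg.charDegree (ψ : G → ℂ) = 1 := by
    intro ψ hψ
    have h1 : Cfsg.charDegree ((H26.oneIrr G : Cfsg.IrrCharacter G) : G → ℂ) = 1 := by
      simp [Cfsg.charDegree, H26.oneIrr_val]
    by_cases hψ1 : ψ = H26.oneIrr G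
    · rw [hψ1, h1]
    rcases hcd ψ with h | h
    · exact h
    have h4 := Finset.sum_le_sum_of_subset_of_nonneg
      (f := fun φ => c φ * Cfsg.charDegree (φ : G → ℂ))
      (Finset.subset_univ ({ψ, H26.oneIrr G} : Finset _)) (fun _ _ _ => Nat.zero_le _)
    rw [Finset.sum_pair hψ1, ← hsum, hone, h1, h] at h4
    have h5 : m ≤ c ψ * m := Nat.le_mul_of_pos_left m (Nat.pos_of_ne_zero hψ)
    have h7 : m ≠ 0 := fun h7 => H26.irr_one_ne_zero ψ (by
      rw [← H44.cast_charDegree, h, h7, Nat.cast_zero])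
    rcases hcd χ with h6 | h6
    · omega
    · omega
  have hker : ∀ y ∈ commutator G, P y = P 1 := by
    intro y hy
    rw [hcP, Finset.sum_apply, Finset.sum_apply]
    refine Finset.sum_congr rfl fun ψ _ => ?_
    by_cases h0 : c ψ = 0
    · simp [h0]
    obtain ⟨f, hf⟩ := H26.exists_hom_of_isCharacter_one (H26.irr_isCharacter ψ)
      (by rw [← H44.cast_charDegree, hlin ψ h0, Nat.cast_one])
    simp only [Pi.smul_apply]
    rw [← hf, ← hf, map_one, MonoidHom.mem_ker.mp (Abelianization.commutator_subset_ker f hy)]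
  have hH : ∀ y ∈ commutator G, y ∈ H := by
    intro y hy
    have h := hker y hy
    rw [hP, indFun_apply, indFun_one, mul_one, inv_mul_eq_iff_eq_mul₀
      (Nat.cast_ne_zero.mpr Nat.card_pos.ne'), ← Nat.cast_mul, H.card_mul_index] at h
    have hre : ∀ x : G, Cfsg.extendByZero H (fun _ => (1 : ℂ)) (x⁻¹ * y * x) =
        ((if x⁻¹ * y * x ∈ H then 1 else 0 : ℕ) : ℂ) := by
      intro x
      by_cases hx : x⁻¹ * y * x ∈ H
      · rw [if_pos hx, extendByZero_of_mem _ _ hx, Nat.cast_one]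
      · rw [if_neg hx, extendByZero_of_notMem _ _ hx, Nat.cast_zero]
    rw [Finset.sum_congr rfl fun x _ => hre x, ← Nat.cast_sum, Nat.cast_inj,
      Finset.sum_boole, Nat.cast_id, Nat.card_eq_fintype_card] at h
    have h1 := (Finset.card_eq_iff_eq_univ _).mp h
    have : (1 : G) ∈ Finset.univ.filter fun x : G => x⁻¹ * y * x ∈ H := by
      rw [h1]; exact Finset.mem_univ _
    simpa using this
  have hone' : χ.1 ⁅a, b⁆ = (Nat.card H : ℂ)⁻¹ * ∑ _x : G, (1 : ℂ) := by
    rw [hχ, indFun_apply]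
    congr 1
    refine Finset.sum_congr rfl fun x _ => ?_
    have hconj : ∀ y ∈ commutator G, x⁻¹ * y * x ∈ commutator G := fun y hy => by
      simpa using (inferInstance : (commutator G).Normal).conj_mem y hy x⁻¹
    have he : x⁻¹ * ⁅a, b⁆ * x = ⁅x⁻¹ * a * x, x⁻¹ * b * x⁆ := by
      simp only [commutatorElement_def]; group
    rw [he]
    have ha' := hH _ (hconj a ha)
    have hb' := hH _ (hconj b hb)
    have hmem : ⁅x⁻¹ * a * x, x⁻¹ * b * x⁆ ∈ H := by
      rw [commutatorElement_def]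
      exact mul_mem (mul_mem (mul_mem ha' hb') (inv_mem ha')) (inv_mem hb')
    rw [extendByZero_of_mem _ _ hmem]
    have hl : lam ⁅(⟨_, ha'⟩ : H), ⟨_, hb'⟩⁆ = 1 := by
      rw [map_commutatorElement]
      exact commutatorElement_eq_one_iff_mul_comm.mpr (mul_comm _ _)
    rw [show (⟨⁅x⁻¹ * a * x, x⁻¹ * b * x⁆, hmem⟩ : H) = ⁅(⟨_, ha'⟩ : H), ⟨_, hb'⟩⁆ from rfl, hl,
      Units.val_one]
  rw [hone', hχ1, Finset.sum_const, Finset.card_univ, nsmul_eq_mul, mul_one,
    ← Nat.card_eq_fintype_card, ← H.card_mul_index, Nat.cast_mul,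
    inv_mul_cancel_left₀ (Nat.cast_ne_zero.mpr Nat.card_pos.ne')]

/-- A group with at most two degrees `1`, `m` has abelian derived subgroup. -/
theorem commutator_comm_of_two_degrees [Finite G] {m : ℕ}
    (hcd : ∀ χ : Cfsg.IrrCharacter G, Cfsg.charDegree (χ : G → ℂ) = 1 ∨
      Cfsg.charDegree (χ : G → ℂ) = m) (hm0 : m ≠ 0) :
    ∀ a ∈ commutator G, ∀ b ∈ commutator G, a * b = b * a := by
  classical
  haveI := Fintype.ofFinite G
  obtain ⟨K, hK, hKc, hKn⟩ := exists_normal_coprime_nilpotent_quotient (G := G) hm0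
    fun p hp hpm => S4456.result p hp fun χ hne => (hcd χ).resolve_left hne ▸ hpm
  have hKab : ∀ a ∈ K, ∀ b ∈ K, a * b = b * a := by
    have h : ∀ θ : Cfsg.IrrCharacter K, θ.1 1 = 1 := by
      intro θ
      obtain ⟨χ, hχ⟩ := H44.exists_irr_over K θ
      have hd := (dvd_mul_left _ _).trans (H44.degree_mul_index_inertia_dvd K χ θ hχ)
      have h1 : Cfsg.charDegree (θ : K → ℂ) = 1 := by
        rcases hcd χ with h | h
        · rw [h] at hd; exact Nat.dvd_one.mp hd
        · rw [h] at hd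
          exact Nat.eq_one_of_dvd_coprimes hKc (charDegree_dvd_card θ) hd
      rw [← H44.cast_charDegree, h1, Nat.cast_one]
    intro a ha b hb
    exact congrArg Subtype.val (H26.comm_iff_forall_irr_one.mpr h ⟨a, ha⟩ ⟨b, hb⟩)
  intro a ha b hb
  have : IsConj (1 : G) ⁅a, b⁆ := (H26.isConj_iff_forall_irr _ _).mpr fun χ => by
    obtain ⟨H, lam, hl⟩ :=
      monomial_of_nilpotent_quotient (Nat.card G) G K hKab hKn le_rfl χ.1 χ.2
    exact (apply_commutator_eq_one hcd χ H lam hl ha hb).symm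
  exact commutatorElement_eq_one_iff_mul_comm.mp (isConj_one_right.mp this)

end Cfsg.Agent.H25
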